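import Groth.Agent.EulerLib.SupportVanishing
import Groth.Agent.H8Lim.ModSections
import Groth.Agent.CAlgSmall.QBridge
import Groth.Agent.PrinLib.Order
import Groth.Agent.DimLib.Points

/-!
# Dimension bounds for closed sets of positive codimension, pullback along a morphism iso over an open
-/

set_option autoImplicit false
set_option backward.isDefEq.respectTransparency false
set_option backward.isDefEq.respectTransparency.types false

universe u

open CategoryTheory CategoryTheory.Limits AlgebraicGeometry Opposite TopologicalSpace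
open Groth.Agent.Coherent Groth.Agent.PicLib

namespace Groth.Agent.ResProp8

variable {X Y : Scheme.{u}}

theorem krullDim_points (α : Type u) [TopologicalSpace α] [QuasiSober α] [T0Space α] :
    topologicalKrullDim α = @Order.krullDim α (specializationOrder α).toPreorder :=
  let _ : PartialOrder α := specializationOrder α
  Order.krullDim_eq_of_orderIso irreducibleSetEquivPoints

/-- A closed subset all of whose points have local rings of dimension at least `c` has dimension at most `dim X - c`. -/
theorem dim_lt_of_le_stalk {T : Set X} (hT : IsClosed T) {c d q : ℕ} (hd : topologicalKrullDim X ≤ d)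
    (hcd : d < q + c) (h : ∀ x ∈ T, (c : WithBot ℕ∞) ≤ ringKrullDim (X.presheaf.stalk x)) :
    topologicalKrullDim T < q := by
  have : QuasiSober T := hT.isClosedEmbedding_subtypeVal.quasiSober
  let v : T → X := Subtype.val
  have hv : StrictMono v := fun a b hab => hab
  have key : ∀ p : LTSeries T, p.length + c ≤ d := fun p => by
    have h1 : (c : ℕ∞) ≤ Order.coheight (v p.last) := by
      have := h _ p.last.2
      rw [ringKrullDim_stalk_eq_coheight] at this
      exact_mod_cast this
    obtain ⟨q', hq', hlen⟩ := Order.exists_series_of_le_coheight (v p.last) h1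
    have h2 := (Order.LTSeries.length_le_krullDim
      (RelSeries.smash (p.map v hv) q' (by rw [LTSeries.last_map, hq']))).trans
        ((DimLib.topologicalKrullDim_eq_krullDim (X := X)).ge.trans hd)
    rw [RelSeries.smash_length, LTSeries.map_length, hlen] at h2
    exact_mod_cast h2
  have e : topologicalKrullDim T = Order.krullDim T := by
    let e₂ : @OrderIso T T (specializationOrder T).toLE (Subtype.preorder fun x => x ∈ T).toLE :=
      { toEquiv := Equiv.refl T, map_rel_iff' := fun {a b} => (subtype_specializes_iff b a).symm }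
    exact (krullDim_points T).trans
      (@Order.krullDim_eq_of_orderIso T T (specializationOrder T).toPreorder (Subtype.preorder fun x => x ∈ T) e₂)
  rw [e]
  rcases q with _ | q
  · have : IsEmpty T := ⟨fun x => by have := key (RelSeries.singleton _ x); omega⟩
    rw [Order.krullDim_eq_bot]
    exact WithBot.bot_lt_coe _
  · refine lt_of_le_of_lt (b := ((q : ℕ) : WithBot ℕ∞)) ?_ (by exact_mod_cast Nat.lt_succ_self q)
    refine iSup_le fun p => ?_
    have := key p
    exact_mod_cast (by omega : p.length ≤ q)

/-- A point of a Noetherian scheme with zero-dimensional local ring lies in every dense open. -/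
theorem mem_of_ringKrullDim_eq_zero [NoetherianSpace X] {U : X.Opens} (hU : Dense (U : Set X)) {x : X}
    (hx : ringKrullDim (X.presheaf.stalk x) = 0) : x ∈ U := by
  have hmax : ∀ y : X, y ⤳ x → x ⤳ y := by
    rw [ringKrullDim_stalk_eq_coheight] at hx
    have h0 : Order.coheight x = 0 := by exact_mod_cast hx
    exact fun y hy => (Order.coheight_eq_zero.1 h0) hy
  let K : Set X := ⋃ C ∈ {C : Set X | C ∈ irreducibleComponents X ∧ x ∉ C}, C
  have hK : IsClosed K := Set.Finite.isClosed_biUnion
    (NoetherianSpace.finite_irreducibleComponents.subset fun C hC => hC.1)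
    fun C hC => isClosed_of_mem_irreducibleComponents C hC.1
  have hxK : x ∉ K := fun h => by
    obtain ⟨C, hC, hxC⟩ := Set.mem_iUnion₂.1 h
    exact hC.2 hxC
  obtain ⟨u, huK, huU⟩ := hU.inter_open_nonempty Kᶜ hK.isOpen_compl ⟨x, hxK⟩
  let C := irreducibleComponent u
  have hC : C ∈ irreducibleComponents X := irreducibleComponent_mem_irreducibleComponents u
  have hxC : x ∈ C := by
    by_contra h
    exact huK (Set.mem_iUnion₂.2 ⟨C, ⟨hC, h⟩, mem_irreducibleComponent⟩)
  obtain ⟨η, hη⟩ := QuasiSober.sober hC.1 isClosed_irreducibleComponent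
  have hxu : x ⤳ u := (hmax η (hη.specializes hxC)).trans (hη.specializes mem_irreducibleComponent)
  exact U.2.stableUnderGeneralization hxu huU

section Unit

variable (f : Y ⟶ X) {U : X.Opens}

theorem bijective_pullSec_congr {p q : Y ⟶ X} (e : p = q) (M : X.Modules) (O : X.Opens)
    (h : Function.Bijective (pullSec p : Γ(M, O) → _)) : Function.Bijective (pullSec q : Γ(M, O) → _) := by
  subst e; exact h

theorem bijective_comp_iff {Z : Scheme.{u}} (h : Z ⟶ Y) (g : Y ⟶ X) (M : X.Modules) (O : X.Opens) :
    Function.Bijective (pullSec (h ≫ g) : Γ(M, O) → _) ↔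
      Function.Bijective (pullSec h ∘ (pullSec g : Γ(M, O) → _)) := by
  have hb : Function.Bijective (((Scheme.Modules.pullbackComp h g).hom.app M).app ((h ≫ g) ⁻¹ᵁ O)) :=
    ConcreteCategory.bijective_of_isIso _
  have he : (pullSec (h ≫ g) : Γ(M, O) → _) = ((Scheme.Modules.pullbackComp h g).hom.app M).app ((h ≫ g) ⁻¹ᵁ O) ∘
      (pullSec h ∘ (pullSec g : Γ(M, O) → _)) :=
    funext fun m => (H8Lim.pullbackComp_hom_app_pullSec h g M m).symm
  rw [he]
  exact Function.Bijective.of_comp_iff' hb _

/-- Pullback of sections along a morphism which is an isomorphism over `U` is bijective inside `U`. -/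
theorem bijective_pullSec_of_isIso_over [IsIso (f ∣_ U)] (M : X.Modules) {O : X.Opens} (hO : O ≤ U) :
    Function.Bijective (pullSec f : Γ(M, O) → _) := by
  have h1 : Function.Bijective (pullSec U.ι : Γ(M, O) → _) :=
    CAlgSmall.QBridge.bijective_pullSec_of_le U.ι M (by rw [Scheme.Opens.opensRange_ι]; exact hO)
  have h2 : Function.Bijective (pullSec (f ∣_ U) : Γ((Scheme.Modules.pullback U.ι).obj M, U.ι ⁻¹ᵁ O) → _) :=
    PrinLib.bijective_pullSect_of_isIso (f ∣_ U) _ _
  have h3 : Function.Bijective (pullSec ((f ∣_ U) ≫ U.ι) : Γ(M, O) → _) :=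
    (bijective_comp_iff _ _ M O).2 (h2.comp h1)
  have h4 := (bijective_comp_iff _ f M O).1 (bijective_pullSec_congr (morphismRestrict_ι f U) M O h3)
  refine (Function.Bijective.of_comp_iff' ?_ _).1 h4
  exact CAlgSmall.QBridge.bijective_pullSec_of_le (f ⁻¹ᵁ U).ι ((Scheme.Modules.pullback f).obj M)
    (by rw [Scheme.Opens.opensRange_ι]; exact f.preimage_mono hO)

/-- Functions over opens inside `U` pull back bijectively. -/
theorem bijective_app_of_isIso_over [IsIso (f ∣_ U)] {O : X.Opens} (hO : O ≤ U) :
    Function.Bijective (f.app O) := by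
  let j := U.ι
  have hO' : j ''ᵁ (j ⁻¹ᵁ O) = O := by
    rw [Scheme.Hom.image_preimage_eq_opensRange_inf, Scheme.Opens.opensRange_ι, inf_eq_right.2 hO]
  have h2 : IsIso (f.app (j ''ᵁ (j ⁻¹ᵁ O))) := by
    have h3 : IsIso ((f ∣_ U).app (j ⁻¹ᵁ O)) := inferInstance
    rw [morphismRestrict_app] at h3
    exact @IsIso.of_isIso_comp_right _ _ _ _ _ (f.app _) _ inferInstance h3
  rw [hO'] at h2
  exact ConcreteCategory.bijective_of_isIso _

end Unit

section HH

variable {S : ShortComplex X.Modules}

theorem subsingleton_HH_X₃ (hS : S.ShortExact) (q : ℕ)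
    (h₂ : Subsingleton (Coh.HH X S.X₂ q)) (h₁ : Subsingleton (Coh.HH X S.X₁ (q + 1))) :
    Subsingleton (Coh.HH X S.X₃ q) := by
  rw [EulerLib.subsingleton_HH_iff] at *
  refine subsingleton_of_forall_eq 0 fun x => ?_
  obtain ⟨y, rfl⟩ := (exact_postA_deltaA (RingHom.id Γ(X, ⊤)) hS ⊤ q x).1 (Subsingleton.elim _ _)
  rw [Subsingleton.elim y 0, map_zero]

end HH

end Groth.Agent.ResProp8
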