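import Groth.Agent.ResProp8.IdealPart
import Groth.Agent.S0055
import Groth.Agent.VarietyLib.PushEuler

/-!
# `F` is `(d-1)`-ample when its pullback is ample in codimension one
-/

set_option autoImplicit false
set_option backward.isDefEq.respectTransparency false
set_option backward.isDefEq.respectTransparency.types false

universe u

open CategoryTheory CategoryTheory.Limits AlgebraicGeometry Opposite TopologicalSpace
open Groth.Agent.Coherent Groth.Agent.PicLib Groth.Agent.AmpleLib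

namespace Groth.Agent.ResProp8

variable {X Y : Scheme.{u}} (f : Y ⟶ X) {V : X.Opens} {G F : X.Modules} {L : Y.Modules}

theorem exists_nhd_preimage_le [IsProper f] {U : X.Opens} [IsIso (f ∣_ U)] {x : X} (hxU : x ∈ U) {y : Y}
    (hy : f y = x) {W : Y.Opens} (hyW : y ∈ W) : ∃ O : X.Opens, x ∈ O ∧ f ⁻¹ᵁ O ≤ W := by
  refine ⟨⟨(f '' (W : Set Y)ᶜ)ᶜ, (f.isClosedMap _ W.2.isClosed_compl).isOpen_compl⟩, ?_,
    fun z hz => by_contra fun h => hz ⟨z, h, rfl⟩⟩
  rintro ⟨z, hz, hzx⟩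
  have hzU : z ∈ f ⁻¹ᵁ U := show f z ∈ U by rw [hzx]; exact hxU
  have hyU : y ∈ f ⁻¹ᵁ U := show f y ∈ U by rw [hy]; exact hxU
  have : (⟨z, hzU⟩ : (f ⁻¹ᵁ U).toScheme) = ⟨y, hyU⟩ := (f ∣_ U).homeomorph.injective (Subtype.ext (by
    show ((f ∣_ U) ⟨z, hzU⟩ : U.toScheme).1 = ((f ∣_ U) ⟨y, hyU⟩ : U.toScheme).1
    rw [morphismRestrict_base_coe, morphismRestrict_base_coe]
    exact hzx.trans hy.symm))
  exact hz (show z ∈ (W : Set Y) by rw [show z = y from congrArg Subtype.val this]; exact hyW)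

/-- Off the support of `I` the map `f^*G ⊗ f^*I ⊗ L^n → f^*G ⊗ L^n` is locally surjective. -/
theorem exists_lift_twn (I : X.IdealSheafData) (n : ℕ) (U : Y.Opens) (z : Γ(twn f G L n, U)) :
    ∀ y ∈ U, f y ∉ (I.support : Set X) → ∃ (U' : Y.Opens) (h : U' ≤ U), y ∈ U' ∧
      ∃ w : Γ(CohB1.tensorMod (twK f G I) (CohB1.tensorPow L n), U'),
        (tensorMap (kap f I _) (𝟙 (CohB1.tensorPow L n))).app U' w = resM _ h z := by
  refine AmpleLib.induction_local (P := fun U z => ∀ y ∈ U, f y ∉ (I.support : Set X) →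
    ∃ (U' : Y.Opens) (h : U' ≤ U), y ∈ U' ∧
      ∃ w : Γ(CohB1.tensorMod (twK f G I) (CohB1.tensorPow L n), U'),
        (tensorMap (kap f I _) (𝟙 (CohB1.tensorPow L n))).app U' w = resM _ h z) ?_ ?_ ?_ ?_ U z
  · intro U a b ha hb y hy hyI
    obtain ⟨U₁, h₁, hy₁, w, hw⟩ := ha y hy hyI
    obtain ⟨U₂, h₂, hy₂, w', hw'⟩ := hb y hy hyI
    refine ⟨U₁ ⊓ U₂, inf_le_left.trans h₁, ⟨hy₁, hy₂⟩, resM _ inf_le_left w + resM _ inf_le_right w', ?_⟩
    rw [map_add, map_add, app_resM, app_resM, hw, hw', resM_resM, resM_resM]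
  · intro U y hy _
    exact ⟨U, le_rfl, hy, 0, by rw [map_zero, map_zero]⟩
  · intro U z hz y hy hyI
    obtain ⟨U₁, h₁, hy₁, hP⟩ := hz y hy
    obtain ⟨U₂, h₂, hy₂, w, hw⟩ := hP y hy₁ hyI
    exact ⟨U₂, h₂.trans h₁, hy₂, w, by rw [hw, resM_resM]⟩
  · intro U a p y hy hyI
    obtain ⟨h, hh⟩ := exists_idealModι_eq_one I
    let O : X.Opens := ⟨(I.support : Set X)ᶜ, I.support.2.isOpen_compl⟩
    refine ⟨U ⊓ f ⁻¹ᵁ O, inf_le_left, ⟨hy, hyI⟩,
      tmul (tmul (resM _ inf_le_left a) (resM _ inf_le_right (pullSec f h))) (resM _ inf_le_left p), ?_⟩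
    rw [tensorMap_tmul, kap_tmul, resM_tmul]
    refine congrArg (fun t => tmul t _) ?_
    have h1 : (show Γ(Y, U ⊓ f ⁻¹ᵁ O) from (twj f I).app (U ⊓ f ⁻¹ᵁ O) (resM _ inf_le_right (pullSec f h))) = 1 := by
      rw [app_resM]
      show res (inf_le_right : U ⊓ f ⁻¹ᵁ O ≤ f ⁻¹ᵁ O) (show Γ(Y, f ⁻¹ᵁ O) from (twj f I).app (f ⁻¹ᵁ O) (pullSec f h)) = 1
      rw [twj_pullSec, hh, map_one, map_one]
    rw [h1, one_smul]

theorem shortExact_image_cokernel {M N : X.Modules} (u : M ⟶ N) :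
    (ShortComplex.mk (Abelian.image.ι u) (cokernel.π u) (kernel.condition _)).ShortExact :=
  { mono_f := inferInstanceAs (Mono (Abelian.image.ι u))
    epi_g := inferInstanceAs (Epi (cokernel.π u))
    exact := ShortComplex.exact_of_f_is_kernel _ (kernelIsKernel _) }

theorem shortExact_kernel_image {M N : X.Modules} (u : M ⟶ N) :
    (ShortComplex.mk (kernel.ι u) (Abelian.factorThruImage u) (by
      rw [← cancel_mono (Abelian.image.ι u), Category.assoc, Abelian.image.fac, kernel.condition, zero_comp])).ShortExact :=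
  { mono_f := inferInstanceAs (Mono (kernel.ι u))
    epi_g := inferInstanceAs (Epi (Abelian.factorThruImage u))
    exact := ShortComplex.exact_of_f_is_kernel _
      (isKernelOfComp (f := Abelian.factorThruImage u) (Abelian.image.ι u) u (kernelIsKernel u) _ (Abelian.image.fac u)) }

variable (e : ((Scheme.Modules.pullback f).obj F).restrict (f ⁻¹ᵁ V).ι ≅ L.restrict (f ⁻¹ᵁ V).ι)

/-- The key step: for large `n` the top cohomology of `G ⊗ F^n` vanishes. -/
theorem subsingleton_top [IsProper f] [IsNoetherian X] [X.IsSeparated] (hL : PicF.IsInvertible L)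
    (hG : Coh.IsCoh G) (hF : Coh.IsCoh F) {U : X.Opens} [IsIso (f ∣_ U)] (I : X.IdealSheafData)
    (hI : ∀ x : X, x ∈ U → x ∈ V → x ∉ (I.support : Set X)) (d n : ℕ) (hd : 1 ≤ d)
    (hdim : topologicalKrullDim X ≤ d)
    (hV : ∀ x : X, x ∉ V → ((2 : ℕ) : WithBot ℕ∞) ≤ ringKrullDim (X.presheaf.stalk x))
    (hUV : ∀ x : X, x ∉ U ⊓ V → ((1 : ℕ) : WithBot ℕ∞) ≤ ringKrullDim (X.presheaf.stalk x))
    (t : Finset X.affineOpens) (ht : ∀ x ∈ V, ∃ B ∈ t, x ∈ B.1)
    (him : ∀ B ∈ t, ∀ z : Γ(CohB1.tensorMod (twK f G I) (CohB1.tensorPow L n), f ⁻¹ᵁ B.1),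
      InIm f V e n B.1 ((pMap f V G L I n).app B.1 z))
    (hPq : Coh.IsQCoh ((Scheme.Modules.pushforward f).obj (CohB1.tensorMod (twK f G I) (CohB1.tensorPow L n))))
    (hTq : Coh.IsQCoh (TW f V (twn f G L n)))
    (hP : Subsingleton (Coh.HH X ((Scheme.Modules.pushforward f).obj
      (CohB1.tensorMod (twK f G I) (CohB1.tensorPow L n))) d)) :
    Subsingleton (Coh.HH X (CohB1.tensorMod G (CohB1.tensorPow F n)) d) := by
  let P := (Scheme.Modules.pushforward f).obj (CohB1.tensorMod (twK f G I) (CohB1.tensorPow L n))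
  let E := CohB1.tensorMod G (CohB1.tensorPow F n)
  let θ := theta f V G e n
  let p : P ⟶ TW f V (twn f G L n) := pMap f V G L I n
  have : Coh.IsQCoh G := hG.1
  have : Coh.IsQCoh F := hF.1
  have : Coh.IsQCoh (CohB1.tensorPow F n) := TPowGen8.isQCoh_tensorPow n
  have hEq : Coh.IsQCoh E := isQCoh_tensorMod _ _
  have := hPq
  have := hTq
  let Φ : P ⊞ E ⟶ TW f V (twn f G L n) := biprod.desc p (-θ)
  have : Coh.IsQCoh (P ⊞ E) := isQCoh_biprod P E
  have hQ : Coh.IsQCoh (kernel Φ) := isQCoh_kernel Φ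
  let q₁ : kernel Φ ⟶ P := kernel.ι Φ ≫ biprod.fst
  let q₂ : kernel Φ ⟶ E := kernel.ι Φ ≫ biprod.snd
  -- a pair with equal images gives a section of the kernel
  have hpair : ∀ (O : X.Opens) (b : Γ(P, O)) (a : Γ(E, O)), p.app O b = θ.app O a →
      ∃ k, q₁.app O k = b ∧ q₂.app O k = a := by
    intro O b a h
    obtain ⟨k, hk⟩ := kernel_sections_exact Φ (U := O)
      ((biprod.inl : P ⟶ P ⊞ E).app O b + (biprod.inr : E ⟶ P ⊞ E).app O a) (by
        rw [map_add]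
        show ((biprod.inl : P ⟶ P ⊞ E) ≫ Φ).app O b + ((biprod.inr : E ⟶ P ⊞ E) ≫ Φ).app O a = 0
        rw [biprod.inl_desc, biprod.inr_desc, h]
        exact add_neg_cancel _)
    refine ⟨k, ?_, ?_⟩
    · show (biprod.fst : P ⊞ E ⟶ P).app O ((kernel.ι Φ).app O k) = b
      rw [hk, map_add]
      show ((biprod.inl : P ⟶ P ⊞ E) ≫ biprod.fst).app O b + ((biprod.inr : E ⟶ P ⊞ E) ≫ biprod.fst).app O a = b
      rw [biprod.inl_fst, biprod.inr_fst]
      exact add_zero b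
    · show (biprod.snd : P ⊞ E ⟶ E).app O ((kernel.ι Φ).app O k) = a
      rw [hk, map_add]
      show ((biprod.inl : P ⟶ P ⊞ E) ≫ biprod.snd).app O b + ((biprod.inr : E ⟶ P ⊞ E) ≫ biprod.snd).app O a = a
      rw [biprod.inl_snd, biprod.inr_snd]
      exact zero_add a
  let Z : Closeds X := ⟨(V : Set X)ᶜ, V.2.isClosed_compl⟩
  let S : Closeds X := ⟨((U ⊓ V : X.Opens) : Set X)ᶜ, (U ⊓ V).2.isClosed_compl⟩
  have hdZ : topologicalKrullDim (Z : Set X) < ((d - 1 : ℕ) : WithBot ℕ∞) :=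
    dim_lt_of_le_stalk Z.2 hdim (by omega) hV
  have hdS : topologicalKrullDim (S : Set X) < (d : WithBot ℕ∞) :=
    dim_lt_of_le_stalk S.2 hdim (by omega) hUV
  -- cokernel of `q₁` is supported outside `V`
  have hc1 : CohB1.support (cokernel q₁) ⊆ (Z : Set X) := fun x hx hxV => by
    refine hx (subsingleton_of_forall_eq 0 fun s => ?_)
    obtain ⟨W, hxW, w, rfl⟩ := (cokernel q₁).presheaf.exists_germ_eq s
    obtain ⟨W₁, h₁, hx₁, b, hb⟩ := Coherent.exists_lift_of_epi (cokernel.π q₁) W w x hxW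
    obtain ⟨B, hB, hxB⟩ := ht x hxV
    obtain ⟨r, hr, hxr⟩ := B.2.exists_basicOpen_le (V := W₁) ⟨x, hx₁⟩ hxB
    obtain ⟨m, z, hz⟩ := qcoh_exists_pow_smul B.2 P r (resM P hr b)
    obtain ⟨O, hO, hxO, a, ha⟩ := him B hB z x hxB
    let O' : X.Opens := O ⊓ X.basicOpen r
    have hO'B : O' ≤ B.1 := inf_le_left.trans hO
    obtain ⟨v, hv⟩ := (isUnit_res_pow r hO'B inf_le_right m).exists_left_inv
    have hb' : v • resM P hO'B z = resM P ((inf_le_right : O' ≤ X.basicOpen r).trans hr) b := by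
      rw [← resM_resM P (X.basicOpen_le r) (inf_le_right : O' ≤ X.basicOpen r), hz, resM_smul, resM_resM, smul_smul]
      rw [show res (inf_le_right : O' ≤ X.basicOpen r) (X.presheaf.map (homOfLE (X.basicOpen_le r)).op (r ^ m)) =
        X.presheaf.map (homOfLE hO'B).op (r ^ m) from res_res _ _ _]
      rw [hv, one_smul]
    obtain ⟨k, hk, -⟩ := hpair O' (v • resM P hO'B z) (v • resM E inf_le_left a) (by
      rw [Scheme.Modules.Hom.app_smul, Scheme.Modules.Hom.app_smul, app_resM, app_resM, ha]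
      exact congrArg (v • ·) (resM_resM _ hO _ _).symm)
    have hW' : O' ≤ W := ((inf_le_right : O' ≤ X.basicOpen r).trans hr).trans h₁
    have hw0 : resM (cokernel q₁) hW' w = 0 := by
      rw [← resM_resM _ h₁ ((inf_le_right : O' ≤ X.basicOpen r).trans hr), ← hb, ← app_resM, ← hb', ← hk]
      exact ConcreteCategory.congr_hom (congrArg (fun φ : _ ⟶ cokernel q₁ => φ.app O') (cokernel.condition q₁)) k
    erw [← TopCat.Presheaf.germ_res_apply _ (homOfLE hW') x ⟨hxO, hxr⟩ w]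
    exact (congrArg ((cokernel q₁).presheaf.germ O' x ⟨hxO, hxr⟩) hw0).trans (map_zero _)
  -- kernel of `q₁` is supported outside `U ⊓ V`
  have hk1 : CohB1.support (kernel q₁) ⊆ (S : Set X) := fun x hx hxUV => by
    refine hx (subsingleton_of_forall_eq 0 fun s => ?_)
    obtain ⟨W, hxW, w, rfl⟩ := (kernel q₁).presheaf.exists_germ_eq s
    obtain ⟨O, hxO, -, hO⟩ := exists_nhd_bijective_theta f V e (G := G) hL hxUV.1 hxUV.2
    let w₁ : Γ(kernel Φ, W ⊓ O) := (kernel.ι q₁).app (W ⊓ O) (resM _ inf_le_left w)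
    have hf : q₁.app (W ⊓ O) w₁ = 0 := kernel_ι_app_zero q₁ _ _
    let u : Γ(P ⊞ E, W ⊓ O) := (kernel.ι Φ).app (W ⊓ O) w₁
    have hu : u = (biprod.inr : E ⟶ P ⊞ E).app (W ⊓ O) (q₂.app (W ⊓ O) w₁) := by
      have ht := congrArg (fun φ : P ⊞ E ⟶ P ⊞ E => φ.app (W ⊓ O) u) (biprod.total (X := P) (Y := E))
      refine ht.symm.trans ?_
      show (biprod.inl : P ⟶ P ⊞ E).app _ (q₁.app (W ⊓ O) w₁) + (biprod.inr : E ⟶ P ⊞ E).app _ (q₂.app (W ⊓ O) w₁) = _
      rw [hf, map_zero, zero_add]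
    have h0 : θ.app (W ⊓ O) (q₂.app (W ⊓ O) w₁) = 0 := by
      have h1 : Φ.app (W ⊓ O) u = 0 := kernel_ι_app_zero Φ _ _
      rw [hu] at h1
      have h2 : ((biprod.inr : E ⟶ P ⊞ E) ≫ Φ).app (W ⊓ O) (q₂.app (W ⊓ O) w₁) = 0 := h1
      rw [biprod.inr_desc] at h2
      exact neg_eq_zero.1 h2
    have ha0 : q₂.app (W ⊓ O) w₁ = 0 := (hO n _ inf_le_right).1 (h0.trans (map_zero _).symm)
    have hw0 : resM (kernel q₁) (inf_le_left : W ⊓ O ≤ W) w = 0 := by
      apply app_injective_of_mono (kernel.ι q₁)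
      rw [map_zero]
      apply app_injective_of_mono (kernel.ι Φ)
      rw [map_zero]
      show u = 0
      rw [hu, ha0, map_zero]
    erw [← TopCat.Presheaf.germ_res_apply _ (homOfLE (inf_le_left : W ⊓ O ≤ W)) x ⟨hxW, hxO⟩ w]
    exact (congrArg ((kernel q₁).presheaf.germ (W ⊓ O) x ⟨hxW, hxO⟩) hw0).trans (map_zero _)
  -- cokernel of `q₂` is supported outside `U ⊓ V`
  have hc2 : CohB1.support (cokernel q₂) ⊆ (S : Set X) := fun x hx hxUV => by
    refine hx (subsingleton_of_forall_eq 0 fun s => ?_)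
    obtain ⟨W, hxW, w, rfl⟩ := (cokernel q₂).presheaf.exists_germ_eq s
    obtain ⟨W₁, h₁, hx₁, a, ha⟩ := Coherent.exists_lift_of_epi (cokernel.π q₂) W w x hxW
    let W₂ : X.Opens := W₁ ⊓ (U ⊓ V)
    obtain ⟨z, hz⟩ := (bijective_toTW f V (twn f G L n) (O := W₂) (inf_le_right.trans inf_le_right)).2
      (θ.app W₂ (resM E inf_le_left a))
    let y : (f ⁻¹ᵁ U).toScheme := (inv (f ∣_ U)) ⟨x, hxUV.1⟩
    have hy : f y.1 = x := by
      have : (inv (f ∣_ U) ≫ f ∣_ U) ⟨x, hxUV.1⟩ = (⟨x, hxUV.1⟩ : U.toScheme) := by rw [IsIso.inv_hom_id]; rfl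
      rw [Scheme.Hom.comp_apply] at this
      exact (morphismRestrict_base_coe f U y).symm.trans (congrArg Subtype.val this)
    obtain ⟨U', hU', hyU', b, hb⟩ := exists_lift_twn f I n (f ⁻¹ᵁ W₂) z y.1
      (show f y.1 ∈ W₂ by rw [hy]; exact ⟨hx₁, hxUV⟩) (by rw [hy]; exact hI x hxUV.1 hxUV.2)
    obtain ⟨O, hxO, hO⟩ := exists_nhd_preimage_le f (U := U) hxUV.1 hy hyU'
    let O' : X.Opens := O ⊓ W₂
    have hO' : f ⁻¹ᵁ O' ≤ U' := (f.preimage_mono inf_le_left).trans hO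
    obtain ⟨k, -, hk⟩ := hpair O' (show Γ(P, O') from resM _ hO' b)
      (resM E ((inf_le_right : O' ≤ W₂).trans inf_le_left) a) (by
        show (toTW f V (twn f G L n)).app O'
          ((tensorMap (kap f I _) (𝟙 _)).app (f ⁻¹ᵁ O') (resM _ hO' b)) = _
        rw [app_resM, hb, resM_resM, ← resM_resM E (inf_le_left : W₂ ≤ W₁) (inf_le_right : O' ≤ W₂),
          app_resM θ (inf_le_right : O' ≤ W₂), ← hz, ← app_resM]
        rfl)
    have hW' : O' ≤ W := ((inf_le_right : O' ≤ W₂).trans inf_le_left).trans h₁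
    have hw0 : resM (cokernel q₂) hW' w = 0 := by
      rw [← resM_resM _ h₁ ((inf_le_right : O' ≤ W₂).trans inf_le_left), ← ha, ← app_resM, ← hk]
      exact ConcreteCategory.congr_hom (congrArg (fun φ : _ ⟶ cokernel q₂ => φ.app O') (cokernel.condition q₂)) k
    erw [← TopCat.Presheaf.germ_res_apply _ (homOfLE hW') x ⟨hxO, hx₁, hxUV⟩ w]
    exact (congrArg ((cokernel q₂).presheaf.germ O' x ⟨hxO, hx₁, hxUV⟩) hw0).trans (map_zero _)
  -- cohomology
  have hK1 : Subsingleton (Coh.HH X (kernel q₁) d) :=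
    EulerLib.subsingleton_HH_of_support S _ (isQCoh_kernel q₁) hk1 d hdS
  have hC1 : Subsingleton (Coh.HH X (cokernel q₁) (d - 1)) :=
    EulerLib.subsingleton_HH_of_support Z _ (isQCoh_cokernel q₁) hc1 (d - 1) hdZ
  obtain ⟨d', rfl⟩ : ∃ d', d = d' + 1 := ⟨d - 1, by omega⟩
  have hI1 : Subsingleton (Coh.HH X (Abelian.image q₁) (d' + 1)) :=
    EulerLib.subsingleton_HH_X₁ (shortExact_image_cokernel q₁) d' hC1 hP
  have hQd : Subsingleton (Coh.HH X (kernel Φ) (d' + 1)) :=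
    EulerLib.subsingleton_HH_X₂ (shortExact_kernel_image q₁) (d' + 1) hK1 hI1
  have hI2 : Subsingleton (Coh.HH X (Abelian.image q₂) (d' + 1)) :=
    subsingleton_HH_X₃ (shortExact_kernel_image q₂) (d' + 1) hQd
      (EulerLib.subsingleton_HH_of_support ⊤ _ (isQCoh_kernel q₂) (fun x _ => trivial) (d' + 2)
        (dim_lt_of_le_stalk isClosed_univ hdim (c := 0) (by omega) fun x _ => by
          exact_mod_cast ringKrullDim_nonneg_of_nontrivial))
  exact EulerLib.subsingleton_HH_X₂ (shortExact_image_cokernel q₂) (d' + 1) hI2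
    (EulerLib.subsingleton_HH_of_support S _ (isQCoh_cokernel q₂) hc2 (d' + 1) hdS)

end Groth.Agent.ResProp8
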