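import Groth.Agent.ResProp8.KillMain
import Groth.Agent.ResProp8.Main
import Groth.Agent.FlatMorDim.Semicont
import Groth.Agent.Coherent.InternalHomAdj
import Groth.Agent.AmpleLib.FTIdeal
import Groth.Agent.DimLib.Zero

/-!
# Morphisms finite over an open with small complement: dimension bounds, maps bijective over an open
-/

set_option autoImplicit false
set_option backward.isDefEq.respectTransparency false
set_option backward.isDefEq.respectTransparency.types false
set_option linter.style.haveILetI false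

universe u

open CategoryTheory CategoryTheory.Limits CategoryTheory.Abelian AlgebraicGeometry Opposite TopologicalSpace
open Groth.Agent.Coherent Groth.Agent.PicLib Groth.Agent.AmpleLib

namespace Groth.Agent.ResProp8

section Dim

attribute [local instance] specializationOrder

variable {A B : Type u} [TopologicalSpace A] [TopologicalSpace B] [QuasiSober A] [T0Space A] [QuasiSober B] [T0Space B]

/-- A specializing map all of whose fibres contain chains of length `k` lowers the dimension by `k`. -/
theorem topologicalKrullDim_lt_of_chains {g : A → B} (hg : SpecializingMap g) (k r : ℕ)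
    (hfib : ∀ b : B, ∃ c : Fin (k + 1) → A, StrictMono c ∧ ∀ i, g (c i) = b)
    (hA : topologicalKrullDim A < (r : WithBot ℕ∞)) : topologicalKrullDim B < ((r - k : ℕ) : WithBot ℕ∞) := by
  have key : ∀ (n : ℕ) (b : B), (n : ℕ∞) ≤ Order.height b → ∀ a : A, g a = b → (n : ℕ∞) ≤ Order.height a := by
    intro n
    induction n with
    | zero => exact fun _ _ _ _ => by simp
    | succ n ih =>
      intro b hb a ha
      obtain ⟨p, hlast, hlen⟩ := Order.exists_series_of_le_height b hb
      let b' := p.eraseLast.last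
      have hlt : b' < b := hlast ▸ p.eraseLast_last_rel_last (by omega)
      have hb' : (n : ℕ∞) ≤ Order.height b' := by
        have h := Order.length_le_height (p := p.eraseLast) le_rfl
        have hn : p.eraseLast.length = n := by simp [hlen]
        rwa [hn] at h
      obtain ⟨a', haa, ha'⟩ := hg (show g a ⤳ b' from ha ▸ hlt.le)
      have hlta : a' < a := lt_of_le_of_ne haa fun e => hlt.ne (by rw [← ha', e, ha])
      exact le_trans (by push_cast; exact add_le_add (ih b' hb' a' ha') le_rfl) (Order.height_add_one_le hlta)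
  have hbound : ∀ p : LTSeries B, p.length + k < r := fun p => by
    obtain ⟨c, hc, hcb⟩ := hfib p.last
    have h0 : ((p.length + k : ℕ) : ℕ∞) ≤ Order.height (c (Fin.last k)) := by
      have : ∀ i : Fin (k + 1), ((p.length + i.1 : ℕ) : ℕ∞) ≤ Order.height (c i) := by
        intro i
        induction i using Fin.induction with
        | zero => simpa using key p.length p.last Order.length_le_height_last (c 0) (hcb 0)
        | succ i ih =>
          refine le_trans ?_ (Order.height_add_one_le (hc (Fin.castSucc_lt_succ (i := i))))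
          calc ((p.length + (i.succ : Fin (k + 1)).1 : ℕ) : ℕ∞) = ((p.length + i.1 : ℕ) : ℕ∞) + 1 := by
                simp only [Fin.val_succ]; push_cast; rw [add_assoc]
            _ ≤ _ := add_le_add (by simpa using ih) le_rfl
      simpa using this (Fin.last k)
    have h1 : (((p.length + k : ℕ) : ℕ∞) : WithBot ℕ∞) < ((r : ℕ∞) : WithBot ℕ∞) :=
      lt_of_le_of_lt ((WithBot.coe_le_coe.2 h0).trans (Order.height_le_krullDim _))
        (by rw [← krullDim_points]; exact_mod_cast hA)
    exact ENat.coe_lt_coe.1 (WithBot.coe_lt_coe.1 h1)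
  rw [krullDim_points]
  rcases Nat.eq_zero_or_pos (r - k) with h | h
  · have : IsEmpty B := ⟨fun b => by have := hbound (RelSeries.singleton _ b); simp at this; omega⟩
    rw [Order.krullDim_eq_bot]
    exact WithBot.bot_lt_coe _
  · obtain ⟨m, hm⟩ : ∃ m, r - k = m + 1 := ⟨r - k - 1, by omega⟩
    rw [hm]
    refine lt_of_le_of_lt (b := ((m : ℕ) : WithBot ℕ∞)) ?_ (WithBot.coe_lt_coe.2 (ENat.coe_lt_coe.2 (Nat.lt_succ_self m)))
    refine iSup_le fun p => ?_
    have := hbound p
    exact WithBot.coe_le_coe.2 (ENat.natCast_le_natCast.2 (by omega : p.length ≤ m))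

/-- A space of dimension above `q` has a chain of points of length `q + 1`. -/
theorem exists_chain_of_not_dim_le {q : ℕ} (h : ¬ topologicalKrullDim A ≤ (q : WithBot ℕ∞)) :
    ∃ c : Fin (q + 2) → A, StrictMono c := by
  rw [krullDim_points] at h
  obtain ⟨p, hp⟩ : ∃ p : LTSeries A, ¬ p.length ≤ q := by
    by_contra hne
    push Not at hne
    exact h (iSup_le fun p => WithBot.coe_le_coe.2 (ENat.natCast_le_natCast.2 (hne p)))
  let p' : LTSeries A := RelSeries.take p ⟨q + 1, by omega⟩
  exact ⟨fun i => p' i, p'.strictMono⟩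

/-- A discrete space has dimension at most zero. -/
theorem dim_le_zero_of_discrete [DiscreteTopology A] : topologicalKrullDim A ≤ ((0 : ℕ) : WithBot ℕ∞) := by
  rw [krullDim_points]
  refine iSup_le fun p => ?_
  rcases Nat.eq_zero_or_pos p.length with h | h
  · rw [h]
  · have h1 : p.toFun (Fin.castSucc ⟨0, h⟩) < p.toFun (Fin.succ ⟨0, h⟩) := p.step ⟨0, h⟩
    exact absurd (specializes_iff_eq.1 h1.le) h1.ne'

end Dim

variable {X Y : Scheme.{u}} (f : Y ⟶ X)

/-- `D 0 = ∅` and `D (q + 1)` is where the fibre dimension exceeds `q`. -/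
noncomputable def fibD [UniversallyClosed f] [LocallyOfFiniteType f] : ℕ → Closeds X
  | 0 => ⊥
  | q + 1 => ⟨{x | topologicalKrullDim ↥(f.fiber x) ≤ ((q : ℕ∞) : WithBot ℕ∞)}ᶜ,
      (FlatMorDim.isOpen_fiber_dim_le f _).isClosed_compl⟩

theorem fibre_le_of_disjoint [UniversallyClosed f] [LocallyOfFiniteType f] {B : X.Opens} {q : ℕ}
    (h : Disjoint (B : Set X) (fibD f (q + 1))) : ∀ x ∈ B, topologicalKrullDim ↥(f.fiber x) ≤ (q : WithBot ℕ∞) :=
  fun x hx => not_not.1 (Set.disjoint_left.1 h hx)

theorem fibre_dim_le_zero_of_finite {U : X.Opens} (hfin : IsFinite (f ∣_ U)) {x : X} (hx : x ∈ U) :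
    topologicalKrullDim ↥(f.fiber x) ≤ ((0 : ℕ) : WithBot ℕ∞) := by
  have := hfin
  let e : (f ⁻¹' {x} : Set Y) → ((f ∣_ U) ⁻¹' {(⟨x, hx⟩ : U.toScheme)} : Set (f ⁻¹ᵁ U).toScheme) := fun z =>
    ⟨⟨z.1, show f z.1 ∈ U by rw [show f z.1 = x from z.2]; exact hx⟩,
      Subtype.ext ((morphismRestrict_base_coe f U _).trans z.2)⟩
  have he : Topology.IsInducing e :=
    Topology.IsInducing.of_comp (g := fun w => (f ⁻¹ᵁ U).ι w.1) (by fun_prop) (by fun_prop)
      Topology.IsInducing.subtypeVal
  haveI : DiscreteTopology ((f ∣_ U) ⁻¹' {(⟨x, hx⟩ : U.toScheme)} : Set (f ⁻¹ᵁ U).toScheme) :=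
    ((f ∣_ U).isDiscrete_preimage_singleton _).1
  exact (f.fiberHomeo x).isInducing.topologicalKrullDim_le.trans
    (he.topologicalKrullDim_le.trans dim_le_zero_of_discrete)

theorem isAffineOpen_preimage [IsProper f] {B : X.Opens} (hB : IsAffineOpen B)
    (h : ∀ x ∈ B, topologicalKrullDim ↥(f.fiber x) ≤ ((0 : ℕ) : WithBot ℕ∞)) : IsAffineOpen (f ⁻¹ᵁ B) := by
  haveI : LocallyQuasiFinite (f ∣_ B) := by
    refine locallyQuasiFinite_iff_isDiscrete_preimage_singleton.2 fun y => ?_
    have hy := fiber_dim_restrict_le f B 0 h y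
    haveI : LocallyOfFiniteType ((f ∣_ B).fiberToSpecResidueField y) :=
      MorphismProperty.pullback_snd _ _ inferInstance
    haveI : DiscreteTopology ((f ∣_ B).fiber y) :=
      DimLib.discreteTopology_of_dim_le_zero (k := B.toScheme.residueField y) ((f ∣_ B).fiberToSpecResidueField y) hy
    exact ⟨((f ∣_ B).fiberHomeo y).symm.isEmbedding.discreteTopology⟩
  haveI : IsFinite (f ∣_ B) := IsFinite.of_isProper_of_locallyQuasiFinite _
  haveI : IsAffine B.toScheme := hB
  exact isAffine_of_isAffineHom (f ∣_ B)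

attribute [local instance] specializationOrder

variable [IsProper f] [AlgebraicGeometry.IsNoetherian X] {U : X.Opens}

/-- The dimension bounds. -/
theorem dimD_fibD [NoetherianSpace Y] (hfin : IsFinite (f ∣_ U)) (hU' : Dense ((f ⁻¹ᵁ U : Y.Opens) : Set Y))
    (d : ℕ) (hY : topologicalKrullDim Y ≤ (d : WithBot ℕ∞)) : DimD (Y := X.toTopCat) (fibD f) d := by
  rintro (_ | q)
  · refine lt_of_le_of_lt (b := (⊥ : WithBot ℕ∞)) ?_ (WithBot.bot_lt_coe _)
    haveI : IsEmpty ((fibD f 0 : Closeds X) : Set X) := ⟨fun z => z.2⟩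
    haveI : IsEmpty (IrreducibleCloseds ((fibD f 0 : Closeds X) : Set X)) :=
      ⟨fun Z => IsEmpty.false Z.isIrreducible.nonempty.some⟩
    exact (Order.krullDim_eq_bot).le
  · let T : Set Y := f ⁻¹' (fibD f (q + 1) : Set X)
    have hT : IsClosed T := (fibD f (q + 1)).2.preimage f.continuous
    have hTd : topologicalKrullDim T < (d : WithBot ℕ∞) :=
      dim_lt_of_le_stalk hT hY (c := 1) (by omega) fun y hy => by
        by_contra h
        rw [ringKrullDim_stalk_eq_coheight] at h
        have h' : Order.coheight y = 0 := by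
          have : ¬ (1 : ℕ∞) ≤ Order.coheight y := fun h'' => h (by exact_mod_cast h'')
          exact ENat.lt_one_iff_eq_zero.1 (not_le.1 this)
        have hyU := mem_of_ringKrullDim_eq_zero hU' (x := y) (by rw [ringKrullDim_stalk_eq_coheight, h']; rfl)
        exact hy ((fibre_dim_le_zero_of_finite f hfin hyU).trans (WithBot.coe_le_coe.2 (ENat.natCast_le_natCast.2 (Nat.zero_le q))))
    haveI : QuasiSober T := hT.isClosedEmbedding_subtypeVal.quasiSober
    haveI : QuasiSober (fibD f (q + 1) : Set X) := (fibD f (q + 1)).2.isClosedEmbedding_subtypeVal.quasiSober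
    refine topologicalKrullDim_lt_of_chains (g := fun y : T => (⟨f y.1, y.2⟩ : (fibD f (q + 1) : Set X))) ?_
      (q + 1) d (fun b => ?_) hTd
    · intro a b hab
      have h1 : f a.1 ⤳ b.1 := Topology.IsInducing.subtypeVal.specializes_iff.2 hab
      obtain ⟨y, hy, hyb⟩ := f.isClosedMap.specializingMap h1
      exact ⟨⟨y, show f y ∈ (fibD f (q + 1) : Set X) by rw [hyb]; exact b.2⟩,
        Topology.IsInducing.subtypeVal.specializes_iff.1 hy, Subtype.ext hyb⟩
    · obtain ⟨c, hc⟩ := exists_chain_of_not_dim_le (A := f.fiber b.1) (q := q) b.2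
      have hi := (f.fiberι b.1).isEmbedding
      have hmem : ∀ i, f (f.fiberι b.1 (c i)) = b.1 := fun i => by
        have : f.fiberι b.1 (c i) ∈ Set.range (f.fiberι b.1) := ⟨_, rfl⟩
        rwa [f.range_fiberι] at this
      refine ⟨fun i => ⟨f.fiberι b.1 (c i), show f _ ∈ (fibD f (q + 1) : Set X) by rw [hmem]; exact b.2⟩,
        fun i j hij => ?_, fun i => Subtype.ext (hmem i)⟩
      refine lt_of_le_not_ge (Topology.IsInducing.subtypeVal.specializes_iff.1 ((hc hij).le.map (f.fiberι b.1).continuous)) ?_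
      intro h
      exact (hc hij).not_ge (hi.isInducing.specializes_iff.1 (Topology.IsInducing.subtypeVal.specializes_iff.2 h))

omit [IsProper f] in
/-- Surjective on affine opens inside `V`: the cokernel is supported off `V`. -/
theorem support_cokernel_subset {V : X.Opens} {M N : X.Modules} (u : M ⟶ N)
    (h : ∀ B : X.Opens, IsAffineOpen B → B ≤ V → Function.Surjective (u.app B)) :
    CohB1.support (cokernel u) ⊆ (V : Set X)ᶜ := fun x hx hxV => by
  refine hx (subsingleton_of_forall_eq 0 fun s => ?_)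
  obtain ⟨W, hxW, w, rfl⟩ := (cokernel u).presheaf.exists_germ_eq s
  obtain ⟨W₁, h₁, hx₁, b, hb⟩ := Coherent.exists_lift_of_epi (cokernel.π u) W w x hxW
  obtain ⟨B, hB, hxB, hle⟩ := Opens.isBasis_iff_nbhd.mp X.isBasis_affineOpens (show x ∈ W₁ ⊓ V from ⟨hx₁, hxV⟩)
  obtain ⟨a, ha⟩ := h B hB (hle.trans inf_le_right) (resM _ (hle.trans inf_le_left) b)
  have hw0 : resM (cokernel u) ((hle.trans inf_le_left).trans h₁) w = 0 := by
    rw [← resM_resM _ h₁ (hle.trans inf_le_left), ← hb, ← app_resM, ← ha]
    exact ConcreteCategory.congr_hom (congrArg (fun φ : _ ⟶ cokernel u => φ.app B) (cokernel.condition u)) a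
  erw [← TopCat.Presheaf.germ_res_apply _ (homOfLE ((hle.trans inf_le_left).trans h₁)) x hxB w]
  exact (congrArg ((cokernel u).presheaf.germ B x hxB) hw0).trans (map_zero _)

omit [IsProper f] in
/-- Injective on affine opens inside `V`: the kernel is supported off `V`. -/
theorem support_kernel_subset {V : X.Opens} {M N : X.Modules} (u : M ⟶ N)
    (h : ∀ B : X.Opens, IsAffineOpen B → B ≤ V → Function.Injective (u.app B)) :
    CohB1.support (kernel u) ⊆ (V : Set X)ᶜ := fun x hx hxV => by
  refine hx (subsingleton_of_forall_eq 0 fun s => ?_)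
  obtain ⟨W, hxW, w, rfl⟩ := (kernel u).presheaf.exists_germ_eq s
  obtain ⟨B, hB, hxB, hle⟩ := Opens.isBasis_iff_nbhd.mp X.isBasis_affineOpens (show x ∈ W ⊓ V from ⟨hxW, hxV⟩)
  have hw0 : resM (kernel u) (hle.trans inf_le_left) w = 0 := by
    apply app_injective_of_mono (kernel.ι u)
    rw [map_zero]
    exact h B hB (hle.trans inf_le_right) ((kernel_ι_app_zero u _ _).trans (map_zero _).symm)
  erw [← TopCat.Presheaf.germ_res_apply _ (homOfLE (hle.trans inf_le_left)) x hxB w]
  exact (congrArg ((kernel u).presheaf.germ B x hxB) hw0).trans (map_zero _)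

variable [X.IsSeparated]

omit [IsProper f] [AlgebraicGeometry.IsNoetherian X] [X.IsSeparated] in
theorem subsingleton_H0_of_mono {M N : X.Modules} (g : M ⟶ N) [Mono g] (h : Subsingleton (Coh.HH X N 0)) :
    Subsingleton (Coh.HH X M 0) := by
  refine subsingleton_of_forall_eq 0 fun x => ?_
  obtain ⟨a, rfl⟩ := (Ext.mk₀_bijective _ _).2 x
  haveI : Mono ((toAbFunctor X).map g) := Functor.map_mono _ _
  have h0 : a ≫ (toAbFunctor X).map g = 0 := (Ext.mk₀_bijective _ _).1 (@Subsingleton.elim _ h _ _)
  rw [zero_of_comp_mono _ h0, Ext.mk₀_zero]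

omit [IsProper f] in
theorem subsingleton_top_of_epi {d : ℕ} (hX : topologicalKrullDim X ≤ (d : WithBot ℕ∞)) {M N : X.Modules}
    [Coh.IsQCoh M] [Coh.IsQCoh N] (u : M ⟶ N) [Epi u] (h : Subsingleton (Coh.HH X M d)) :
    Subsingleton (Coh.HH X N d) := by
  haveI := isQCoh_kernel u
  exact subsingleton_HH_X₃ (S := ShortComplex.mk (kernel.ι u) u (kernel.condition u))
    { exact := ShortComplex.exact_of_f_is_kernel _ (kernelIsKernel u) } d h
    (EulerLib.subsingleton_HH_of_dim _ hX (Nat.lt_succ_self d))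

omit [IsProper f] in
/-- A map surjective over `V` preserves top degree vanishing. -/
theorem subsingleton_top_of_surjective {d : ℕ} (hX : topologicalKrullDim X ≤ (d : WithBot ℕ∞)) {V : X.Opens}
    (hV : topologicalKrullDim ((V : Set X)ᶜ : Set X) < (d : WithBot ℕ∞)) {M N : X.Modules} [Coh.IsQCoh M] [Coh.IsQCoh N]
    (u : M ⟶ N) (hu : ∀ B : X.Opens, IsAffineOpen B → B ≤ V → Function.Surjective (u.app B))
    (h : Subsingleton (Coh.HH X M d)) : Subsingleton (Coh.HH X N d) := by
  haveI := isQCoh_image u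
  have h1 := subsingleton_top_of_epi hX (Abelian.factorThruImage u) h
  exact EulerLib.subsingleton_HH_X₂ (shortExact_image_cokernel u) d h1
    (EulerLib.subsingleton_HH_of_support ⟨_, V.2.isClosed_compl⟩ _ (isQCoh_cokernel u)
      (support_cokernel_subset u hu) d hV)

omit [IsProper f] in
/-- A map bijective over an open with complement of codimension two reflects top degree vanishing. -/
theorem subsingleton_top_of_bijective {d : ℕ} (hX : topologicalKrullDim X ≤ (d : WithBot ℕ∞)) {V : X.Opens}
    (hV : topologicalKrullDim ((V : Set X)ᶜ : Set X) < ((d - 1 : ℕ) : WithBot ℕ∞)) {M N : X.Modules} [Coh.IsQCoh M]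
    [Coh.IsQCoh N] (u : M ⟶ N) (hu : ∀ B : X.Opens, IsAffineOpen B → B ≤ V → Function.Bijective (u.app B))
    (h : Subsingleton (Coh.HH X N d)) : Subsingleton (Coh.HH X M d) := by
  haveI := isQCoh_image u
  let Z : Closeds X := ⟨_, V.2.isClosed_compl⟩
  have hV' : topologicalKrullDim (Z : Set X) < (d : WithBot ℕ∞) :=
    lt_of_lt_of_le hV (WithBot.coe_le_coe.2 (ENat.natCast_le_natCast.2 (Nat.sub_le d 1)))
  have hk : CohB1.support (kernel u) ⊆ (Z : Set X) := support_kernel_subset u fun B hB hBV => (hu B hB hBV).1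
  have hc : CohB1.support (cokernel u) ⊆ (Z : Set X) := support_cokernel_subset u fun B hB hBV => (hu B hB hBV).2
  have hI : Subsingleton (Coh.HH X (Abelian.image u) d) := by
    rcases d with _ | d'
    · exact subsingleton_H0_of_mono (Abelian.image.ι u) h
    · exact EulerLib.subsingleton_HH_X₁ (shortExact_image_cokernel u) d'
        (EulerLib.subsingleton_HH_of_support Z _ (isQCoh_cokernel u) hc d' hV) h
  exact EulerLib.subsingleton_HH_X₂ (shortExact_kernel_image u) d
    (EulerLib.subsingleton_HH_of_support Z _ (isQCoh_kernel u) hk d hV') hI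

end Groth.Agent.ResProp8
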