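import Groth.Agent.ResProp8.AltMain
import Groth.Agent.Coherent.InternalHomAdj
import Groth.Agent.Coherent.Existence.SysSupport
import Mathlib.RingTheory.LocalRing.Module

/-!
# Dévissage: vanishing on an alteration gives vanishing on the base
-/

set_option autoImplicit false
set_option backward.isDefEq.respectTransparency false
set_option backward.isDefEq.respectTransparency.types false
set_option linter.style.haveILetI false

universe u

open CategoryTheory CategoryTheory.Limits CategoryTheory.Abelian AlgebraicGeometry Opposite TopologicalSpace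
open Groth.Agent.Coherent Groth.Agent.PicLib Groth.Agent.AmpleLib Groth.Agent.ModStalk Groth.Agent.AssSch12

namespace Groth.Agent.ResProp8

attribute [local instance] Groth.Agent.Coherent.hasFiniteBiproducts

theorem exists_surjective_residue {R : Type u} [CommRing R] [IsLocalRing R] (M : Type u)
    [AddCommGroup M] [Module R M] [Module.Finite R M] [Nontrivial M] :
    ∃ q : M →ₗ[R] (R ⧸ IsLocalRing.maximalIdeal R), Function.Surjective q := by
  have hne : Nontrivial (TensorProduct R (IsLocalRing.ResidueField R) M) := by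
    by_contra h
    rw [not_nontrivial_iff_subsingleton, IsLocalRing.subsingleton_tensorProduct] at h
    exact false_of_nontrivial_of_subsingleton M
  obtain ⟨w, hw⟩ := exists_ne (0 : TensorProduct R (IsLocalRing.ResidueField R) M)
  obtain ⟨l, hl⟩ := Module.Projective.exists_dual_ne_zero (IsLocalRing.ResidueField R) hw
  let q : M →ₗ[R] IsLocalRing.ResidueField R :=
    (l.restrictScalars R).comp (TensorProduct.mk R (IsLocalRing.ResidueField R) M 1)
  obtain ⟨v, hv⟩ : ∃ v, q v ≠ 0 := by
    by_contra! h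
    have hl0 : l = 0 := by
      ext m
      simpa [q] using h m
    exact hl (by rw [hl0]; rfl)
  refine ⟨q, fun c => ?_⟩
  obtain ⟨a, ha⟩ := IsLocalRing.residue_surjective ((show IsLocalRing.ResidueField R from c) * (q v)⁻¹)
  refine ⟨a • v, ?_⟩
  show q (a • v) = (show IsLocalRing.ResidueField R from c)
  rw [map_smul, Algebra.smul_def, IsLocalRing.ResidueField.algebraMap_eq, ha, mul_assoc, inv_mul_cancel₀ hv, mul_one]

variable {X Y : Scheme.{u}} (f : Y ⟶ X) [IsProper f] [AlgebraicGeometry.IsNoetherian X]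
  [AlgebraicGeometry.IsNoetherian Y] [X.IsSeparated] [Y.IsSeparated] {E : ℕ → X.Modules} {d : ℕ}

local notation "St" => DerSch.stalkFunctor X

theorem support_tensor_right_subset (E F : X.Modules) :
    CohB1.support (CohB1.tensorMod E F) ⊆ CohB1.support F := fun x hx => by
  by_contra h
  haveI : Subsingleton ((St x).obj F) := not_not.1 h
  refine hx ?_
  haveI : Subsingleton (TensorProduct (X.presheaf.stalk x) ((St x).obj E) ((St x).obj F)) :=
    subsingleton_of_forall_eq 0 fun w => by
      induction w using TensorProduct.induction_on with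
      | zero => rfl
      | tmul a b => rw [Subsingleton.elim b 0, TensorProduct.tmul_zero]
      | add a b ha hb => rw [ha, hb, add_zero]
  exact (stalkTensorIso x E F).toLinearEquiv.toEquiv.subsingleton

theorem support_sky_subset (y : X) (A : ModuleCat.{u} (X.presheaf.stalk y)) :
    CohB1.support ((sky y).obj A) ⊆ closure {y} := fun z hz => by
  by_contra h
  refine hz (subsingleton_of_forall_eq 0 fun u => ?_)
  obtain ⟨V, hzV, s, rfl⟩ := ((sky y).obj A).presheaf.exists_germ_eq u
  let W : X.Opens := V ⊓ ⟨(closure {y})ᶜ, isClosed_closure.isOpen_compl⟩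
  rw [← TopCat.Presheaf.germ_res_apply ((sky y).obj A).presheaf (homOfLE (inf_le_left : W ≤ V)) z ⟨hzV, h⟩]
  refine (congrArg _ (sval_ext (A := A) (U := W) fun hx => absurd (subset_closure (Set.mem_singleton y)) hx.2)).trans (map_zero _)

theorem stalk_total {M C : X.Modules} (y : X) (w : (St y).obj (M ⊞ C)) :
    w = (St y).map (biprod.inl : M ⟶ M ⊞ C) ((St y).map biprod.fst w) +
      (St y).map (biprod.inr : C ⟶ M ⊞ C) ((St y).map biprod.snd w) := by
  rw [stalk_comp_apply, stalk_comp_apply, ← stalk_add_apply, biprod.total, stalk_id_apply]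

/-- Isomorphisms act on cohomology. -/
theorem subsingleton_HH_iso {M N : X.Modules} (e : M ≅ N) (n : ℕ) (h : Subsingleton (Coh.HH X M n)) :
    Subsingleton (Coh.HH X N n) := subsingleton_of_forall_eq 0 fun x => by
  rw [← hMap_id n x, ← e.inv_hom_id, hMap_comp, h.elim (hMap e.inv n x) 0, map_zero]

/-- `M ⊗ I → M`. -/
noncomputable def kapX (I : X.IdealSheafData) (M : X.Modules) : CohB1.tensorMod M (ClSub.idealMod I) ⟶ M :=
  tensorMap (𝟙 M) (ClSub.idealModι I) ≫ (tensorComm M (Coh.structureModule X)).hom ≫ (unitTensorIso M).hom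

theorem kapX_tmul (I : X.IdealSheafData) (M : X.Modules) (U : X.Opens) (a : Γ(M, U)) (q : Γ(ClSub.idealMod I, U)) :
    (kapX I M).app U (tmul a q) = (show Γ(X, U) from (ClSub.idealModι I).app U q) • a := by
  show (unitTensorIso M).hom.app U
    ((tensorComm M (Coh.structureModule X)).hom.app U ((tensorMap (𝟙 M) (ClSub.idealModι I)).app U (tmul a q))) = _
  rw [tensorMap_tmul]
  refine (congrArg (fun t => (unitTensorIso M).hom.app U t) (Bilin.desc_tmul _ U _ _)).trans ?_
  exact Bilin.desc_tmul _ U _ _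

/-- The class of modules with eventual top degree vanishing. -/
def TopVan (E : ℕ → X.Modules) (d : ℕ) (F : X.Modules) : Prop :=
  ∃ n₀ : ℕ, ∀ n : ℕ, n₀ ≤ n → Subsingleton (Coh.HH X (CohB1.tensorMod (E n) F) d)

omit [IsProper f] [AlgebraicGeometry.IsNoetherian Y] [Y.IsSeparated] in
theorem epi_tE (E₀ : X.Modules) {M N : X.Modules} (u : M ⟶ N) [Epi u] : Epi (tE E₀ u) :=
  inferInstanceAs (Epi ((tensE E₀).map u))

variable (hE : ∀ n, Coh.IsCoh (E n)) (hX : topologicalKrullDim X ≤ (d : WithBot ℕ∞))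

include hE hX

omit [IsProper f] [AlgebraicGeometry.IsNoetherian Y] [Y.IsSeparated] in
theorem TopVan.of_epi {M N : X.Modules} (hM : Coh.IsCoh M) (hN : Coh.IsCoh N) (u : M ⟶ N) [Epi u]
    (h : TopVan E d M) : TopVan E d N := by
  obtain ⟨n₀, h₀⟩ := h
  refine ⟨n₀, fun n hn => ?_⟩
  haveI := (isCoh_tensor (hE n) hM).1
  haveI := (isCoh_tensor (hE n) hN).1
  haveI := epi_tE (E n) u
  exact subsingleton_top_of_epi hX (tE (E n) u) (h₀ n hn)

omit [IsProper f] [AlgebraicGeometry.IsNoetherian Y] [Y.IsSeparated] in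
theorem TopVan.ext {S : ShortComplex X.Modules} (hS : S.ShortExact) (h₁ : Coh.IsCoh S.X₁) (h₂ : Coh.IsCoh S.X₂)
    (h₃ : Coh.IsCoh S.X₃) (k₁ : TopVan E d S.X₁) (k₃ : TopVan E d S.X₃) : TopVan E d S.X₂ := by
  obtain ⟨n₁, g₁⟩ := k₁
  obtain ⟨n₃, g₃⟩ := k₃
  refine ⟨max n₁ n₃, fun n hn => ?_⟩
  haveI := (isCoh_tensor (hE n) h₁).1
  haveI := (isCoh_tensor (hE n) h₂).1
  haveI := (isCoh_tensor (hE n) h₃).1
  haveI := hS.epi_g
  haveI : Epi (tE (E n) S.g) := epi_tE (E n) S.g
  have hex : (S.map (tensE (E n))).Exact := hS.exact.map_of_epi_of_preservesCokernel (tensE (E n)) inferInstance inferInstance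
  haveI : Epi (Abelian.factorThruImage (tE (E n) S.f)) := inferInstance
  let K := kernel (tE (E n) S.g)
  haveI : Coh.IsQCoh K := isQCoh_kernel _
  haveI : Epi (kernel.lift (tE (E n) S.g) (tE (E n) S.f) (S.map (tensE (E n))).zero) :=
    (S.map (tensE (E n))).exact_iff_epi_kernel_lift.1 hex
  have hK : Subsingleton (Coh.HH X K d) :=
    subsingleton_top_of_epi hX (kernel.lift (tE (E n) S.g) (tE (E n) S.f) (S.map (tensE (E n))).zero)
      (g₁ n ((le_max_left _ _).trans hn))
  exact EulerLib.subsingleton_HH_X₂ (S := ShortComplex.mk (kernel.ι (tE (E n) S.g)) (tE (E n) S.g) (kernel.condition _))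
    { exact := ShortComplex.exact_of_f_is_kernel _ (kernelIsKernel _) } d hK (g₃ n ((le_max_right _ _).trans hn))

omit [IsProper f] [AlgebraicGeometry.IsNoetherian Y] [Y.IsSeparated] in
theorem extClass_topVan : ExtClass (TopVan E d) where
  iso := fun {M N} e ⟨n₀, h⟩ => ⟨n₀, fun n hn => subsingleton_HH_iso ((tensE (E n)).mapIso e) d (h n hn)⟩
  zero := fun M hM => ⟨0, fun n _ => EulerLib.subsingleton_HH_of_isZero ((tensE (E n)).map_isZero hM) d⟩
  ext := fun S hS h₁ h₂ h₃ => TopVan.ext hE hX hS h₁ h₂ h₃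

omit [IsProper f] [AlgebraicGeometry.IsNoetherian Y] [Y.IsSeparated] in
theorem TopVan.ext_kernel {M N : X.Modules} (u : M ⟶ N) (hM : Coh.IsCoh M) (hK : Coh.IsCoh (kernel u))
    (hI : Coh.IsCoh (Abelian.image u)) (kK : TopVan E d (kernel u)) (kI : TopVan E d (Abelian.image u)) : TopVan E d M :=
  TopVan.ext hE hX (S := ShortComplex.mk (kernel.ι u) (Abelian.factorThruImage u) (by
      rw [← cancel_mono (Abelian.image.ι u), Category.assoc, Abelian.image.fac, kernel.condition, zero_comp]))
    (shortExact_kernel_image u) hK hM hI kK kI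

omit [IsProper f] [AlgebraicGeometry.IsNoetherian Y] [Y.IsSeparated] in
theorem TopVan.ext_image {M N : X.Modules} (u : M ⟶ N) (hN : Coh.IsCoh N) (hI : Coh.IsCoh (Abelian.image u))
    (hC : Coh.IsCoh (cokernel u)) (kI : TopVan E d (Abelian.image u)) (kC : TopVan E d (cokernel u)) : TopVan E d N :=
  TopVan.ext hE hX (S := ShortComplex.mk (Abelian.image.ι u) (cokernel.π u) (kernel.condition _))
    (shortExact_image_cokernel u) hI hN hC kI kC

omit [IsProper f] [AlgebraicGeometry.IsNoetherian Y] [Y.IsSeparated] in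
theorem topVan_of_support {M : X.Modules} (hM : Coh.IsCoh M) (Z : Closeds X) (hMZ : CohB1.support M ⊆ (Z : Set X))
    (hZ : topologicalKrullDim (Z : Set X) < (d : WithBot ℕ∞)) : TopVan E d M := by
  refine ⟨0, fun n _ => ?_⟩
  exact EulerLib.subsingleton_HH_of_support Z _ (isCoh_tensor (hE n) hM).1
    ((support_tensor_right_subset (E n) M).trans hMZ) d hZ

/-- Vanishing for all pushforwards gives vanishing on the base. -/
theorem topVan_of_push (hsurj : Function.Surjective f) (hD : DimD (Y := X.toTopCat) (fibD f) d)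
    (hpush : ∀ G : Y.Modules, Coh.IsCoh G → ∃ n₀ : ℕ, ∀ n : ℕ, n₀ ≤ n →
      Subsingleton (Coh.HH X ((Scheme.Modules.pushforward f).obj (CohB1.tensorMod G (pullE f (E n)))) d))
    (F : X.Modules) (hF : Coh.IsCoh F) : TopVan E d F := by
  have hK := extClass_topVan hE hX
  refine mem_of_support hK Set.univ ?_ ⊤ (Set.subset_univ _) F hF (Set.subset_univ _)
  intro Z _ _ _ y hy Z₀ hZ₀ hsm C hC hCZ hCy
  obtain ⟨e⟩ := hCy
  haveI := hC.1
  haveI hsky : Coh.IsQCoh ((sky y).obj (resMod y)) := isQCoh_sky_of_killed y 1 killed_resMod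
  let σC : C ⟶ (sky y).obj (resMod y) := skyMap y e.hom
  have heinj : Function.Injective e.hom := (ModuleCat.mono_iff_injective e.hom).1 inferInstance
  have hesurj : Function.Surjective e.hom := (ModuleCat.epi_iff_surjective e.hom).1 inferInstance
  have hCinj : ∀ u, (St y).map σC u = 0 → u = 0 := fun u hu => by
    have := (stalk_skyMap_eq_iff y e.hom e.hom u 0).1 (hu.trans (map_zero _).symm)
    exact heinj this
  by_cases hyV : y ∈ (fibD f 1 : Set X)
  · -- the closure of `y` lies in the small closed set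
    have hdim : topologicalKrullDim (fibD f 1 : Set X) < (d : WithBot ℕ∞) :=
      lt_of_lt_of_le (hD 1) (WithBot.coe_le_coe.2 (ENat.natCast_le_natCast.2 (Nat.sub_le d 1)))
    haveI := isQCoh_image σC
    haveI := isQCoh_kernel σC
    have hKc : Coh.IsCoh (kernel σC) := Coherent.isCoh_kernel σC hC hsky
    have hIc : Coh.IsCoh (Abelian.image σC) := ⟨inferInstance, isFT_of_epi (Abelian.factorThruImage σC) hC.2⟩
    refine TopVan.ext_kernel hE hX σC hC hKc hIc
      (hsm _ hKc ((support_subset_of_mono (kernel.ι σC)).trans hCZ) fun h => h ?_)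
      (topVan_of_support hE hX hIc (fibD f 1) ((support_subset_of_mono (Abelian.image.ι σC)).trans
        ((support_sky_subset y _).trans ((fibD f 1).2.closure_subset_iff.2 (Set.singleton_subset_iff.2 hyV)))) hdim)
    refine subsingleton_of_forall_eq 0 fun u => ?_
    refine (ModuleCat.mono_iff_injective ((St y).map (kernel.ι σC))).1 inferInstance ?_
    refine (hCinj _ ?_).trans (map_zero _).symm
    rw [stalk_comp_apply, kernel.condition]
    exact stalk_zero_apply _
  -- the interesting case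
  let G : Y.Modules := (Scheme.Modules.pullback f).obj C
  have hG : Coh.IsCoh G := isCoh_pull f hC
  let M : X.Modules := (Scheme.Modules.pushforward f).obj G
  have hM : Coh.IsCoh M := Coherent.Existence.isCoh_push_of_isProper f hG
  haveI := hM.1
  have hsG : CohB1.support G = f.base ⁻¹' CohB1.support C := support_pullback_qcoh f hC.1 hC.2
  have hMC : CohB1.support M ⊆ CohB1.support C := by
    refine (Coherent.Existence.support_push_subset_image f f.isClosedMap G (isClosed_support G (locallyFinGen_of_isFT G hG.2))).trans ?_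
    rw [hsG]
    exact Set.image_preimage_subset _ _
  have hyC : y ∈ CohB1.support C := fun h => by
    haveI : Subsingleton ((St y).obj C) := h
    have hs : Subsingleton (resMod y) := hesurj.subsingleton
    exact (IsLocalRing.maximalIdeal.isMaximal _).ne_top (Ideal.Quotient.subsingleton_iff.1 hs)
  have hyM : y ∈ CohB1.support M := by
    intro h
    obtain ⟨z, hz⟩ := hsurj y
    have hcl := isClosed_support M (locallyFinGen_of_isFT M hM.2)
    obtain ⟨B, hB, hyB, hle⟩ := Opens.isBasis_iff_nbhd.mp X.isBasis_affineOpens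
      (show y ∈ finOpen f ⊓ ⟨(CohB1.support M)ᶜ, hcl.isOpen_compl⟩ from ⟨hyV, fun h' => h' h⟩)
    have hsub : Subsingleton Γ(G, f ⁻¹ᵁ B) :=
      subsingleton_sections_of_disjoint M B (Set.disjoint_left.2 fun w hw hw' => (hle hw).2 hw')
    have hzs : z ∈ CohB1.support G := by
      rw [hsG]
      show f z ∈ CohB1.support C
      rw [hz]; exact hyC
    refine hzs (subsingleton_of_forall_eq 0 fun a => ?_)
    haveI := hG.1
    have hzB : z ∈ f ⁻¹ᵁ B := show f z ∈ B by rw [hz]; exact hyB
    obtain ⟨g, m, hg, hm⟩ := QCohLoc.exists_smul_stalk_eq_germ G (isAffine_preimage_of_le f hB (hle.trans inf_le_left)) hzB a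
    rw [hsub.elim m 0, map_zero] at hm
    exact (IsUnit.smul_eq_zero ((Scheme.mem_basicOpen _ _ _ hzB).1 hg)).1 hm
  haveI : Module.Finite (X.presheaf.stalk y) (M.presheaf.stalk y) := finite_stalk hM y
  haveI : Nontrivial (M.presheaf.stalk y) := not_subsingleton_iff_nontrivial.1 hyM
  obtain ⟨g₀, hg₀⟩ := exists_surjective_residue (R := X.presheaf.stalk y) (M.presheaf.stalk y)
  let g : (St y).obj M ⟶ resMod y := ModuleCat.ofHom g₀
  let σM : M ⟶ (sky y).obj (resMod y) := skyMap y g
  let Φ : M ⊞ C ⟶ (sky y).obj (resMod y) := biprod.desc σM (-σC)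
  have hMCc : Coh.IsCoh (M ⊞ C) := by
    refine Coherent.isCoh_X₂ (S := ShortComplex.mk (biprod.inl : M ⟶ M ⊞ C) biprod.snd biprod.inl_snd) ?_ hM hC
    exact (ShortComplex.Splitting.ofHasBinaryBiproduct M C).shortExact
  let R := kernel Φ
  have hR : Coh.IsCoh R := Coherent.isCoh_kernel Φ hMCc hsky
  haveI := hR.1
  let q₁ : R ⟶ M := kernel.ι Φ ≫ biprod.fst
  let q₂ : R ⟶ C := kernel.ι Φ ≫ biprod.snd
  -- stalks at `y`
  have hlift : ∀ (m : (St y).obj M) (c : (St y).obj C), g m = e.hom c →
      ∃ r, (St y).map q₁ r = m ∧ (St y).map q₂ r = c := fun m c hmc => by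
    have hσ : (St y).map σM m = (St y).map σC c := (stalk_skyMap_eq_iff y g e.hom m c).2 hmc
    let u := (St y).map (biprod.inl : M ⟶ M ⊞ C) m + (St y).map (biprod.inr : C ⟶ M ⊞ C) c
    have hu : (St y).map Φ u = 0 := by
      rw [map_add, stalk_comp_apply, stalk_comp_apply, biprod.inl_desc, biprod.inr_desc, hσ, ← stalk_add_apply,
        add_neg_cancel, stalk_zero_apply]
    obtain ⟨r, hr⟩ := (ShortComplex.moduleCat_exact_iff _).1 ((ShortComplex.exact_kernel Φ).map (St y)) u hu
    replace hr : (St y).map (kernel.ι Φ) r = u := hr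
    refine ⟨r, ?_, ?_⟩
    · rw [show (St y).map q₁ r = (St y).map biprod.fst ((St y).map (kernel.ι Φ) r) from (stalk_comp_apply _ _ r).symm, hr,
        map_add, stalk_comp_apply, stalk_comp_apply, biprod.inl_fst, biprod.inr_fst, stalk_id_apply, stalk_zero_apply,
        add_zero]
    · rw [show (St y).map q₂ r = (St y).map biprod.snd ((St y).map (kernel.ι Φ) r) from (stalk_comp_apply _ _ r).symm, hr,
        map_add, stalk_comp_apply, stalk_comp_apply, biprod.inl_snd, biprod.inr_snd, stalk_id_apply, stalk_zero_apply,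
        zero_add]
  -- the kernel of `q₁` misses `y` and lives in `Z₀`
  have hk₁y : y ∉ CohB1.support (kernel q₁) := fun h => h (subsingleton_of_forall_eq 0 fun u => by
    refine (ModuleCat.mono_iff_injective ((St y).map (kernel.ι q₁ ≫ kernel.ι Φ))).1 inferInstance ?_
    refine Eq.trans ?_ (map_zero _).symm
    let w := (St y).map (kernel.ι q₁ ≫ kernel.ι Φ) u
    show w = 0
    have h1 : (St y).map (biprod.fst : M ⊞ C ⟶ M) w = 0 := by
      rw [stalk_comp_apply, show (kernel.ι q₁ ≫ kernel.ι Φ) ≫ (biprod.fst : M ⊞ C ⟶ M) = 0 by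
        rw [Category.assoc]; exact kernel.condition q₁, stalk_zero_apply]
    have h2 : (St y).map Φ w = 0 := by
      rw [stalk_comp_apply, show (kernel.ι q₁ ≫ kernel.ι Φ) ≫ Φ = 0 by
        rw [Category.assoc, kernel.condition, comp_zero], stalk_zero_apply]
    have htot := stalk_total y w
    rw [h1, map_zero, zero_add] at htot
    have h3 : (St y).map σC ((St y).map biprod.snd w) = 0 := by
      rw [htot, stalk_comp_apply, biprod.inr_desc] at h2
      have h4 : (St y).map σC ((St y).map biprod.snd w) + (St y).map (-σC) ((St y).map biprod.snd w) = 0 := by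
        rw [← stalk_add_apply, add_neg_cancel, stalk_zero_apply]
      rwa [h2, add_zero] at h4
    rw [htot, hCinj _ h3, map_zero])
  have hq₁ : ∀ m, ∃ r, (St y).map q₁ r = m := fun m => by
    obtain ⟨c, hc⟩ := hesurj (g m)
    obtain ⟨r, hr, -⟩ := hlift m c hc.symm
    exact ⟨r, hr⟩
  have hq₂ : ∀ c, ∃ r, (St y).map q₂ r = c := fun c => by
    obtain ⟨m, hm⟩ := hg₀ (e.hom c)
    obtain ⟨r, -, hr⟩ := hlift m c hm
    exact ⟨r, hr⟩
  have hcok : ∀ {P Q : X.Modules} (u : P ⟶ Q), (∀ q, ∃ p, (St y).map u p = q) → y ∉ CohB1.support (cokernel u) :=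
    fun {P Q} u hu h => h (subsingleton_of_forall_eq 0 fun t => by
      obtain ⟨q, rfl⟩ := (ModuleCat.epi_iff_surjective ((St y).map (cokernel.π u))).1 inferInstance t
      obtain ⟨p, rfl⟩ := hu q
      rw [stalk_comp_apply, cokernel.condition]
      exact stalk_zero_apply _)
  haveI := isQCoh_image q₁
  haveI := isQCoh_image q₂
  haveI := isQCoh_kernel q₁
  haveI := isQCoh_kernel q₂
  have hK₁ : Coh.IsCoh (kernel q₁) := Coherent.isCoh_kernel q₁ hR hM.1
  have hK₂ : Coh.IsCoh (kernel q₂) := Coherent.isCoh_kernel q₂ hR hC.1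
  have hI₁ : Coh.IsCoh (Abelian.image q₁) := ⟨inferInstance, isFT_of_epi (Abelian.factorThruImage q₁) hR.2⟩
  have hI₂ : Coh.IsCoh (Abelian.image q₂) := ⟨inferInstance, isFT_of_epi (Abelian.factorThruImage q₂) hR.2⟩
  have hC₁ : Coh.IsCoh (cokernel q₁) := Coherent.isCoh_cokernel q₁ hR.1 hM
  have hC₂ : Coh.IsCoh (cokernel q₂) := Coherent.isCoh_cokernel q₂ hR.1 hC
  have hk₁Z : CohB1.support (kernel q₁) ⊆ Z₀ := fun w hw => by
    by_contra hwZ
    have hwC : Subsingleton ((St w).obj C) := not_not.1 fun h => hwZ (hCZ h)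
    have hwM : Subsingleton ((St w).obj M) := not_not.1 fun h => hwZ (hCZ (hMC h))
    refine hw (subsingleton_of_forall_eq 0 fun u => ?_)
    refine (ModuleCat.mono_iff_injective ((St w).map (kernel.ι q₁ ≫ kernel.ι Φ))).1 inferInstance ?_
    refine Eq.trans ?_ (map_zero _).symm
    let v := (St w).map (kernel.ι q₁ ≫ kernel.ι Φ) u
    show v = 0
    have htot := stalk_total w v
    rw [hwM.elim ((St w).map biprod.fst v) 0, hwC.elim ((St w).map biprod.snd v) 0, map_zero, map_zero, add_zero] at htot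
    exact htot
  -- the ideal killing the cokernel of `q₁`
  let J := annSheaf hC₁.1 hC₁.2
  have hJ : Coh.IsCoh (ClSub.idealMod J) :=
    AmpleLib.isCoh_idealMod J fun U => (IsLocallyNoetherian.component_noetherian U).noetherian _
  have hyJ : y ∉ (J.support : Set X) := by
    rw [support_annSheaf]
    exact hcok q₁ hq₁
  have hzero : kapX J M ≫ cokernel.π q₁ = 0 := AmpleLib.hom_ext fun U a q => by
    show (cokernel.π q₁).app U ((kapX J M).app U (tmul a q)) = 0
    rw [kapX_tmul, Scheme.Modules.Hom.app_smul]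
    refine TopCat.Presheaf.section_ext (Coh.toAb (cokernel q₁)) U _ 0 fun x hx => ?_
    obtain ⟨B, hB, hxB, hle⟩ := Opens.isBasis_iff_nbhd.mp X.isBasis_affineOpens hx
    have h0 : resM (cokernel q₁) hle ((show Γ(X, U) from (ClSub.idealModι J).app U q) • (cokernel.π q₁).app U a) = 0 := by
      rw [resM_smul]
      refine killed_annSheaf hC₁.1 hC₁.2 ⟨B, hB⟩ _ ?_ _
      rw [← J.ker_subschemeι_app ⟨B, hB⟩, RingHom.mem_ker]
      exact (mem_range_idealModι J B _).1 ⟨resM _ hle q, app_resM (ClSub.idealModι J) hle q⟩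
    erw [← TopCat.Presheaf.germ_res_apply _ (homOfLE hle) x hxB]
    exact ((congrArg ((cokernel q₁).presheaf.germ B x hxB) h0).trans (map_zero _)).trans (map_zero _).symm
  let l : CohB1.tensorMod M (ClSub.idealMod J) ⟶ Abelian.image q₁ := kernel.lift (cokernel.π q₁) (kapX J M) hzero
  have hMJ : Coh.IsCoh (CohB1.tensorMod M (ClSub.idealMod J)) := isCoh_tensor hM hJ
  haveI := hMJ.1
  haveI := isQCoh_image l
  have hIl : Coh.IsCoh (Abelian.image l) := ⟨inferInstance, isFT_of_epi (Abelian.factorThruImage l) hMJ.2⟩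
  have hCl : Coh.IsCoh (cokernel l) := Coherent.isCoh_cokernel l hMJ.1 hI₁
  have hTopM : TopVan E d (CohB1.tensorMod M (ClSub.idealMod J)) := by
    have hG' : Coh.IsCoh (CohB1.tensorMod G (pullE f (ClSub.idealMod J))) := isCoh_tensor hG (isCoh_pull f hJ)
    obtain ⟨n₀, h₀⟩ := hpush _ hG'
    refine ⟨n₀, fun n hn => ?_⟩
    haveI := (hE n).1
    haveI := hG.1
    haveI := hJ.1
    haveI := hG'.1
    haveI := isQCoh_push_coh f hG'
    haveI : Coh.IsQCoh (CohB1.tensorMod (ClSub.idealMod J) M) := isQCoh_tensorMod _ _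
    haveI := (isCoh_tensor (hE n) hMJ).1
    haveI := isQCoh_push_coh f (isCoh_tensor hG' (isCoh_pull f (hE n)))
    haveI := (isCoh_tensor hG' (isCoh_pull f (hE n))).1
    let θ : CohB1.tensorMod M (ClSub.idealMod J) ⟶
        (Scheme.Modules.pushforward f).obj (CohB1.tensorMod G (pullE f (ClSub.idealMod J))) :=
      (tensorComm _ _).hom ≫ projSwap f (ClSub.idealMod J) G
    refine subsingleton_top_of_bijective hX (dim_compl_finOpen f hD)
      (tE (E n) θ ≫ projSwap f (E n) (CohB1.tensorMod G (pullE f (ClSub.idealMod J)))) (fun B hB hBV => ?_) (h₀ n hn)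
    show Function.Bijective ((projSwap f (E n) _).app B ∘ (tE (E n) θ).app B)
    refine (bijective_projSwap f hB hBV).comp (bijective_tensorMap_app θ hB ?_)
    show Function.Bijective ((projSwap f (ClSub.idealMod J) G).app B ∘ (tensorComm M (ClSub.idealMod J)).hom.app B)
    exact (bijective_projSwap f hB hBV).comp (ConcreteCategory.bijective_of_isIso _)
  have hl : y ∉ CohB1.support (cokernel l) := by
    refine hcok l fun q => ?_
    obtain ⟨W, hyW, s, hs⟩ := M.presheaf.exists_germ_eq (show M.presheaf.stalk y from (St y).map (Abelian.image.ι q₁) q)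
    obtain ⟨k, hk⟩ := exists_idealModι_eq_one J
    let O : X.Opens := ⟨(J.support : Set X)ᶜ, J.support.2.isOpen_compl⟩
    let t : Γ(CohB1.tensorMod M (ClSub.idealMod J), W ⊓ O) := tmul (resM M inf_le_left s) (resM _ inf_le_right k)
    refine ⟨(CohB1.tensorMod M (ClSub.idealMod J)).presheaf.germ (W ⊓ O) y ⟨hyW, hyJ⟩ t, ?_⟩
    refine (ModuleCat.mono_iff_injective ((St y).map (Abelian.image.ι q₁))).1 inferInstance ?_
    rw [stalk_comp_apply, show l ≫ Abelian.image.ι q₁ = kapX J M from kernel.lift_ι _ _ _, stalk_map_germ]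
    refine Eq.trans ?_ hs
    rw [kapX_tmul, app_resM, hk]
    refine Eq.trans ?_ (TopCat.Presheaf.germ_res_apply M.presheaf (homOfLE (inf_le_left : W ⊓ O ≤ W)) y ⟨hyW, hyJ⟩ s)
    refine congrArg _ ?_
    show res (inf_le_right : W ⊓ O ≤ O) (1 : Γ(X, O)) • _ = _
    rw [map_one, one_smul]
  have hI₁M : CohB1.support (Abelian.image q₁) ⊆ Z₀ := ((support_subset_of_mono (Abelian.image.ι q₁)).trans hMC).trans hCZ
  have kI₁ : TopVan E d (Abelian.image q₁) :=
    TopVan.ext_image hE hX l hI₁ hIl hCl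
      (TopVan.of_epi hE hX hMJ hIl (Abelian.factorThruImage l) hTopM)
      (hsm _ hCl ((support_subset_of_epi (cokernel.π l)).trans hI₁M) hl)
  have kR : TopVan E d R :=
    TopVan.ext_kernel hE hX q₁ hR hK₁ hI₁ (hsm _ hK₁ hk₁Z hk₁y) kI₁
  exact TopVan.ext_image hE hX q₂ hC hI₂ hC₂
    (TopVan.of_epi hE hX hR hI₂ (Abelian.factorThruImage q₂) kR)
    (hsm _ hC₂ ((support_subset_of_epi (cokernel.π q₂)).trans hCZ) (hcok q₂ hq₂))

end Groth.Agent.ResProp8
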