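import Groth.Agent.ResProp8.AltBase
import Groth.Agent.Coherent.ProjFormula
import Groth.Agent.Coherent.TensorSections
import Groth.Agent.Coherent.DevissageMain
import Groth.Agent.Coherent.SupportPullback

/-!
# Top degree vanishing of a family under an alteration
-/

set_option autoImplicit false
set_option backward.isDefEq.respectTransparency false
set_option backward.isDefEq.respectTransparency.types false
set_option linter.style.haveILetI false

universe u

open CategoryTheory CategoryTheory.Limits CategoryTheory.Abelian AlgebraicGeometry Opposite TopologicalSpace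
open Groth.Agent.Coherent Groth.Agent.PicLib Groth.Agent.AmpleLib
open scoped TensorProduct

namespace Groth.Agent.ResProp8

attribute [local instance] Groth.Agent.Coherent.hasFiniteBiproducts

variable {X Y : Scheme.{u}} (f : Y ⟶ X)

/-- The projection map, on sections over an affine open with affine preimage. -/
theorem bijective_projHom_app (E : X.Modules) (N : Y.Modules) [Coh.IsQCoh E] [Coh.IsQCoh N]
    [Coh.IsQCoh ((Scheme.Modules.pushforward f).obj N)] {B : X.Opens} (hB : IsAffineOpen B)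
    (hW : IsAffineOpen (f ⁻¹ᵁ B)) : Function.Bijective ((projHom f E N).app B) := by
  haveI : Coh.IsQCoh ((Scheme.Modules.pullback f).obj E) := EGA43.InjFibre.isQCoh_pullback _ _
  let W : Y.Opens := f ⁻¹ᵁ B
  letI := (f.appLE B W le_rfl).hom.toAlgebra
  letI := Module.compHom Γ((Scheme.Modules.pullback f).obj E, W) (f.appLE B W le_rfl).hom
  letI := Module.compHom Γ(N, W) (f.appLE B W le_rfl).hom
  haveI : IsScalarTower Γ(X, B) Γ(Y, W) Γ((Scheme.Modules.pullback f).obj E, W) :=
    IsScalarTower.of_algebraMap_smul fun _ _ => rfl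
  haveI : IsScalarTower Γ(X, B) Γ(Y, W) Γ(N, W) := IsScalarTower.of_algebraMap_smul fun _ _ => rfl
  obtain ⟨μ, hμ, hμm⟩ := EGA43.InjFibre.pullMap_isBaseChange f hB hW le_rfl E
  let eN : Γ((Scheme.Modules.pushforward f).obj N, B) ≃ₗ[Γ(X, B)] Γ(N, W) :=
    { toFun := fun a => a
      invFun := fun a => a
      left_inv := fun _ => rfl
      right_inv := fun _ => rfl
      map_add' := fun _ _ => rfl
      map_smul' := fun r a => by
        show f.app B r • (show Γ(N, W) from a) = f.appLE B W le_rfl r • (show Γ(N, W) from a)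
        rw [Scheme.Hom.app_eq_appLE] }
  let eK : Γ(E, B) ⊗[Γ(X, B)] Γ((Scheme.Modules.pushforward f).obj N, B) ≃+
      Γ((Scheme.Modules.pullback f).obj E, W) ⊗[Γ(Y, W)] Γ(N, W) :=
    (((TensorProduct.congr (LinearEquiv.refl _ _) eN).trans (TensorProduct.comm Γ(X, B) _ _)).toAddEquiv.trans
      (TensorProduct.AlgebraTensorModule.cancelBaseChange Γ(X, B) Γ(Y, W) Γ(Y, W) Γ(N, W) Γ(E, B)).symm.toAddEquiv).trans
      ((TensorProduct.congr (LinearEquiv.refl _ _) hμ.equiv).trans (TensorProduct.comm Γ(Y, W) _ _)).toAddEquiv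
  let Φ : Γ(E, B) ⊗[Γ(X, B)] Γ((Scheme.Modules.pushforward f).obj N, B) →
      Γ(CohB1.tensorMod ((Scheme.Modules.pullback f).obj E) N, W) :=
    fun z => (projHom f E N).app B (tmulMap E ((Scheme.Modules.pushforward f).obj N) B z)
  have hΦ : Φ = tmulMap ((Scheme.Modules.pullback f).obj E) N W ∘ eK := funext fun z => by
    show (projHom f E N).app B (tmulMap E ((Scheme.Modules.pushforward f).obj N) B z) = tmulMap _ N W (eK z)
    induction z using TensorProduct.induction_on with
    | zero => simp only [map_zero]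
    | add a b ha hb =>
      simp only [map_add] at ha hb ⊢
      rw [ha, hb]
    | tmul a m =>
      have he : eK (a ⊗ₜ m) = μ a ⊗ₜ (show Γ(N, W) from m) := by
        simp only [eK, AddEquiv.trans_apply, LinearEquiv.coe_toAddEquiv, LinearEquiv.trans_apply,
          TensorProduct.congr_tmul, TensorProduct.comm_tmul, LinearEquiv.refl_apply]
        erw [TensorProduct.AlgebraTensorModule.cancelBaseChange_symm_tmul]
        show hμ.equiv ((1 : Γ(Y, W)) ⊗ₜ[Γ(X, B)] a) ⊗ₜ[Γ(Y, W)] (show Γ(N, W) from m) = _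
        rw [IsBaseChange.equiv_tmul, one_smul]
      rw [tmulMap_tmul, he, tmulMap_tmul, projHom_tmul, hμm, pullMap_eq_resM_pullSec]
      show tmul (pullSec f a) _ = tmul (resM _ _ (pullSec f a)) _
      rw [resM_self]
  have hb : Function.Bijective Φ := by
    rw [hΦ]
    exact (bijective_tmulMap hW _ N).comp eK.bijective
  exact (Function.Bijective.of_comp_iff _ (bijective_tmulMap hB E _)).1 hb

/-- Tensoring preserves bijectivity over an affine open. -/
theorem bijective_tensorMap_app {E M M' : X.Modules} [Coh.IsQCoh E] [Coh.IsQCoh M] [Coh.IsQCoh M'] (φ : M ⟶ M')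
    {B : X.Opens} (hB : IsAffineOpen B) (h : Function.Bijective (φ.app B)) :
    Function.Bijective ((tE E φ).app B) := by
  let l : Γ(M, B) ≃ₗ[Γ(X, B)] Γ(M', B) := LinearEquiv.ofBijective
    { toFun := fun a => φ.app B a
      map_add' := fun a b => map_add _ a b
      map_smul' := fun r a => φ.app_smul r a } h
  have e : (tE E φ).app B ∘ tmulMap E M B =
      tmulMap E M' B ∘ TensorProduct.congr (LinearEquiv.refl Γ(X, B) Γ(E, B)) l := funext fun z => by
    induction z using TensorProduct.induction_on with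
    | zero => simp only [Function.comp_apply, map_zero]
    | add a b ha hb =>
      simp only [Function.comp_apply, map_add] at ha hb ⊢
      rw [ha, hb]
    | tmul a m =>
      show (tE E φ).app B (tmul a m) = tmulMap E M' B (a ⊗ₜ l m)
      rw [tensE_map_tmul, tmulMap_tmul]
      rfl
  refine (Function.Bijective.of_comp_iff _ (bijective_tmulMap hB E M)).1 ?_
  rw [e]
  exact (bijective_tmulMap hB E M').comp (LinearEquiv.bijective _)

variable [IsProper f] [AlgebraicGeometry.IsNoetherian X] [AlgebraicGeometry.IsNoetherian Y]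

/-- The comparison `E ⊗ f_*G → f_*(G ⊗ f^*E)`. -/
noncomputable def projSwap (E : X.Modules) (G : Y.Modules) :
    CohB1.tensorMod E ((Scheme.Modules.pushforward f).obj G) ⟶
      (Scheme.Modules.pushforward f).obj (CohB1.tensorMod G (pullE f E)) :=
  projHom f E G ≫ (Scheme.Modules.pushforward f).map (tensorComm _ _).hom

/-- The open where `f` has finite fibres. -/
noncomputable def finOpen : X.Opens := ⟨((fibD f 1 : Closeds X) : Set X)ᶜ, (fibD f 1).2.isOpen_compl⟩

omit [AlgebraicGeometry.IsNoetherian X] [AlgebraicGeometry.IsNoetherian Y] in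
theorem isAffine_preimage_of_le {B : X.Opens} (hB : IsAffineOpen B) (h : B ≤ finOpen f) :
    IsAffineOpen (f ⁻¹ᵁ B) :=
  isAffineOpen_preimage f hB fun x hx => not_not.1 (h hx)

omit [AlgebraicGeometry.IsNoetherian X] [AlgebraicGeometry.IsNoetherian Y] in
theorem bijective_projSwap {E : X.Modules} {G : Y.Modules} [Coh.IsQCoh E] [Coh.IsQCoh G]
    [Coh.IsQCoh ((Scheme.Modules.pushforward f).obj G)] {B : X.Opens} (hB : IsAffineOpen B) (h : B ≤ finOpen f) :
    Function.Bijective ((projSwap f E G).app B) := by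
  show Function.Bijective ((tensorComm (pullE f E) G).hom.app (f ⁻¹ᵁ B) ∘ (projHom f E G).app B)
  exact (ConcreteCategory.bijective_of_isIso ((tensorComm (pullE f E) G).hom.app (f ⁻¹ᵁ B))).comp
    (bijective_projHom_app f E G hB (isAffine_preimage_of_le f hB h))

omit [IsProper f] [AlgebraicGeometry.IsNoetherian Y] in
theorem isCoh_tensor {M N : X.Modules} (hM : Coh.IsCoh M) (hN : Coh.IsCoh N) : Coh.IsCoh (CohB1.tensorMod M N) :=
  haveI := hM.1
  haveI := hN.1
  ⟨isQCoh_tensorMod _ _, isFT_tensorMod _ _ hM.2 hN.2⟩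

omit [AlgebraicGeometry.IsNoetherian Y] in
theorem isCoh_pull {M : X.Modules} (hM : Coh.IsCoh M) : Coh.IsCoh ((Scheme.Modules.pullback f).obj M) :=
  ⟨haveI := hM.1; EGA43.InjFibre.isQCoh_pullback f M, isFT_pullback_qcoh f hM.1 hM.2⟩

omit [AlgebraicGeometry.IsNoetherian Y] in
theorem fibre_dim_le (d : ℕ) (hY : topologicalKrullDim Y ≤ (d : WithBot ℕ∞)) (x : X) :
    topologicalKrullDim ↥(f.fiber x) ≤ (d : WithBot ℕ∞) :=
  (f.fiberι x).isEmbedding.isInducing.topologicalKrullDim_le.trans hY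

omit [AlgebraicGeometry.IsNoetherian Y] in
/-- One killing step. -/
theorem exists_kill_step (A : Y.Modules) (hA : Coh.IsCoh A) (d : ℕ) (hY : topologicalKrullDim Y ≤ (d : WithBot ℕ∞)) :
    ∃ I : X.IdealSheafData, Coh.IsCoh (ClSub.idealMod I) ∧ (I.support : Set X) ⊆ (fibD f 1 : Set X) ∧
      ∀ E : X.Modules, Coh.IsCoh E → Kill (X := Y.toTopCat) (Y := X.toTopCat) f.base
        {B : X.Opens | IsAffineOpen B} (fibD f)
        ((toAbFunctor Y).map (tensorMap (kap f I A) (𝟙 (pullE f E)))) := by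
  classical
  haveI := hasInjectiveResolutions_modules Y
  haveI := hA.1
  let R : Fin d → X.Modules := fun i => (Coh.Rpush f (i.1 + 1)).obj A
  have hR : ∀ i, Coh.IsCoh (R i) := fun i => Coherent.isCoh_rpush f (M := A) hA (i.1 + 1)
  have hS : Coh.IsCoh (⨁ R) := Coherent.isCoh_biproduct R hR
  let I := annSheaf hS.1 hS.2
  have hI : Coh.IsCoh (ClSub.idealMod I) :=
    AmpleLib.isCoh_idealMod I fun U => (IsLocallyNoetherian.component_noetherian U).noetherian _
  refine ⟨I, hI, ?_, fun E hE q B hB hdis x => ?_⟩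
  · rw [support_annSheaf]
    refine support_biproduct_subset R fun i x hx => ?_
    by_contra hxD
    refine hx ?_
    exact AddCommGrpCat.subsingleton_of_isZero
      ((H8Lim.isZero_stalk_rpushAb_of_fibre_dim f hA x 0 (not_not.1 hxD) (i.1 + 1) i.1.succ_pos).of_iso
        ((TopCat.Presheaf.stalkFunctor AddCommGrpCat.{u} x).mapIso
          ((sheafToPresheaf _ _).mapIso ((toAbRpushNatIso f (i.1 + 1)).app A))) :
        IsZero (((Coh.Rpush f (i.1 + 1)).obj A).presheaf.stalk x))
  have hd := fibre_le_of_disjoint f (q := q + 1) hdis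
  by_cases hq : q < d
  · exact postHM_kap_eq_zero f hI hA.1 hE ⟨B, hB⟩ (q + 1) hd (fun r hr m => by
      have h := killed_annSheaf hS.1 hS.2 ⟨B, hB⟩ r hr ((biproduct.ι R ⟨q, hq⟩).app B m)
      apply app_injective_of_mono (biproduct.ι R ⟨q, hq⟩)
      rw [Scheme.Modules.Hom.app_smul, map_zero]
      exact h) x
  · haveI := hI.1
    haveI : Coh.IsQCoh (CohB1.tensorMod A ((Scheme.Modules.pullback f).obj (ClSub.idealMod I))) :=
      haveI := (isCoh_pull f hI).1
      isQCoh_tensorMod _ _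
    haveI := (isCoh_pull f hE).1
    haveI : Coh.IsQCoh (CohB1.tensorMod A (pullE f E)) := isQCoh_tensorMod _ _
    exact @Subsingleton.elim _ (subsingleton_HU_of_fibre_dim f (CohB1.tensorMod A (pullE f E)) hB q
      fun x' _ => (fibre_dim_le f d hY x').trans
        (WithBot.coe_le_coe.2 (ENat.natCast_le_natCast.2 (not_lt.1 hq)))) _ _

omit [AlgebraicGeometry.IsNoetherian Y] in
theorem isQCoh_push_coh {M : Y.Modules} (hM : Coh.IsCoh M) : Coh.IsQCoh ((Scheme.Modules.pushforward f).obj M) :=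
  (Coherent.Existence.isCoh_push_of_isProper f hM).1

variable [X.IsSeparated] [Y.IsSeparated] {E : ℕ → X.Modules} {d : ℕ}

omit [IsProper f] [AlgebraicGeometry.IsNoetherian Y] [Y.IsSeparated] in
/-- A map surjective over `V` is surjective on top degree cohomology. -/
theorem surjective_hMap_of_surjective (hX : topologicalKrullDim X ≤ (d : WithBot ℕ∞)) {V : X.Opens}
    (hV : topologicalKrullDim ((V : Set X)ᶜ : Set X) < (d : WithBot ℕ∞)) {M N : X.Modules} [Coh.IsQCoh M]
    [Coh.IsQCoh N] (u : M ⟶ N) (hu : ∀ B : X.Opens, IsAffineOpen B → B ≤ V → Function.Surjective (u.app B)) :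
    Function.Surjective (hMap u d) := by
  intro x
  haveI := isQCoh_image u
  haveI := isQCoh_kernel u
  obtain ⟨y, hy⟩ := Ext.covariant_sequence_exact₂ _ (toAb_shortExact (shortExact_image_cokernel u)) x
    ((EulerLib.subsingleton_HH_of_support ⟨_, V.2.isClosed_compl⟩ _ (isQCoh_cokernel u)
      (support_cokernel_subset u hu) d hV).elim _ _)
  obtain ⟨z, hz⟩ := Ext.covariant_sequence_exact₃ _ (toAb_shortExact (shortExact_kernel_image u)) y rfl
    ((EulerLib.subsingleton_HH_of_dim (kernel u) hX (Nat.lt_succ_self d)).elim _ _)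
  refine ⟨z, ?_⟩
  rw [← Abelian.image.fac u, hMap_comp]
  exact (congrArg (hMap (Abelian.image.ι u) d) hz).trans hy


omit [X.IsSeparated] [Y.IsSeparated] in
/-- Sections over affine opens lift along a map with cokernel supported away from them. -/
theorem surjective_app_of_support {M N : Y.Modules} [Coh.IsQCoh M] [Coh.IsQCoh N] (u : M ⟶ N) {W : Y.Opens}
    (hW : IsAffineOpen W) (h : Disjoint (W : Set Y) (CohB1.support (cokernel u))) : Function.Surjective (u.app W) := by
  intro n
  haveI := isQCoh_kernel u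
  haveI := subsingleton_sections_of_disjoint (cokernel u) W h
  obtain ⟨i, hi⟩ := sections_exact (shortExact_image_cokernel u) (U := W) n (Subsingleton.elim _ _)
  obtain ⟨m, hm⟩ := sections_surjective (shortExact_kernel_image u) hW i
  refine ⟨m, Eq.trans ?_ hi⟩
  rw [← hm]
  exact (ConcreteCategory.congr_hom (congrArg (fun φ : M ⟶ N => φ.app W) (Abelian.image.fac u)) m).symm

omit [X.IsSeparated] [Y.IsSeparated] in
/-- `kap ⊗ f^*E` is surjective over affine opens inside the finite locus. -/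
theorem surjective_push_kap {A : Y.Modules} (hA : Coh.IsCoh A) {I : X.IdealSheafData}
    (hI : Coh.IsCoh (ClSub.idealMod I)) (hIs : (I.support : Set X) ⊆ (fibD f 1 : Set X))
    {E : X.Modules} (hE : Coh.IsCoh E) {B : X.Opens} (hB : IsAffineOpen B) (hBV : B ≤ finOpen f) :
    Function.Surjective (((Scheme.Modules.pushforward f).map (tensorMap (kap f I A) (𝟙 (pullE f E)))).app B) := by
  haveI := (isCoh_tensor (isCoh_tensor hA (isCoh_pull f hI)) (isCoh_pull f hE)).1
  haveI := (isCoh_tensor hA (isCoh_pull f hE)).1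
  refine surjective_app_of_support (tensorMap (kap f I A) (𝟙 (pullE f E))) (isAffine_preimage_of_le f hB hBV) ?_
  refine Set.disjoint_left.2 fun y hy hys => hys (subsingleton_of_forall_eq 0 fun s => ?_)
  let ψ := tensorMap (kap f I A) (𝟙 (pullE f E))
  obtain ⟨W, hyW, w, rfl⟩ := (cokernel ψ).presheaf.exists_germ_eq s
  obtain ⟨W₁, h₁, hy₁, b, hb⟩ := Coherent.exists_lift_of_epi (cokernel.π ψ) W w y hyW
  obtain ⟨k, hk⟩ := exists_idealModι_eq_one I
  let O : X.Opens := ⟨(I.support : Set X)ᶜ, I.support.2.isOpen_compl⟩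
  have hyO : y ∈ f ⁻¹ᵁ O := fun h => hBV hy (hIs h)
  have key : ∀ (U : Y.Opens) (z : Γ(CohB1.tensorMod A (pullE f E), U)), ∀ _h : U ≤ f ⁻¹ᵁ O, ∀ y ∈ U,
      ∃ (U' : Y.Opens) (h' : U' ≤ U), y ∈ U' ∧ ∃ a, ψ.app U' a = resM _ h' z := by
    refine AmpleLib.induction_local (P := fun U z => ∀ _h : U ≤ f ⁻¹ᵁ O, ∀ y ∈ U,
      ∃ (U' : Y.Opens) (h' : U' ≤ U), y ∈ U' ∧ ∃ a, ψ.app U' a = resM _ h' z) ?_ ?_ ?_ ?_
    · intro U z z' hz hz' hU y hy
      obtain ⟨U₁, g₁, hy₁, a, ha⟩ := hz hU y hy
      obtain ⟨U₂, g₂, hy₂, c, hc⟩ := hz' hU y hy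
      refine ⟨U₁ ⊓ U₂, inf_le_left.trans g₁, ⟨hy₁, hy₂⟩, resM _ inf_le_left a + resM _ inf_le_right c, ?_⟩
      rw [map_add, map_add, app_resM, app_resM, ha, hc, resM_resM, resM_resM]
    · intro U hU y hy
      exact ⟨U, le_rfl, hy, 0, by rw [map_zero, map_zero]⟩
    · intro U z hz hU y hy
      obtain ⟨U₁, g₁, hy₁, hP⟩ := hz y hy
      obtain ⟨U₂, g₂, hy₂, a, ha⟩ := hP (g₁.trans hU) y hy₁
      exact ⟨U₂, g₂.trans g₁, hy₂, a, by rw [ha, resM_resM]⟩
    · intro U a e hU y hy
      refine ⟨U, le_rfl, hy, tmul (tmul a (resM _ hU (pullSec f k))) e, ?_⟩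
      show (tensorMap (kap f I A) (𝟙 (pullE f E))).app U _ = _
      rw [tensorMap_tmul, kap_tmul, resM_self]
      have h1 : (show Γ(Y, U) from (twj f I).app U (resM _ hU (pullSec f k))) = 1 := by
        rw [app_resM]
        show res hU (show Γ(Y, f ⁻¹ᵁ O) from (twj f I).app (f ⁻¹ᵁ O) (pullSec f k)) = 1
        rw [twj_pullSec, hk, map_one, map_one]
      rw [h1, one_smul]
      rfl
  obtain ⟨U', h', hy', a, ha⟩ := key (W₁ ⊓ f ⁻¹ᵁ O) (resM _ inf_le_left b) inf_le_right y ⟨hy₁, hyO⟩
  have hle : U' ≤ W := (h'.trans inf_le_left).trans h₁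
  have hw0 : resM (cokernel ψ) hle w = 0 := by
    rw [← resM_resM _ h₁ (h'.trans inf_le_left), ← hb, ← app_resM, ← resM_resM _ inf_le_left h', ← ha]
    exact ConcreteCategory.congr_hom (congrArg (fun φ : _ ⟶ cokernel ψ => φ.app U') (cokernel.condition ψ)) a
  erw [← TopCat.Presheaf.germ_res_apply _ (homOfLE hle) y hy' w]
  exact (congrArg ((cokernel ψ).presheaf.germ U' y hy') hw0).trans (map_zero _)

omit [AlgebraicGeometry.IsNoetherian Y] [Y.IsSeparated] in
theorem dim_compl_finOpen (hD : DimD (Y := X.toTopCat) (fibD f) d) :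
    topologicalKrullDim (((finOpen f : X.Opens) : Set X)ᶜ : Set X) < ((d - 1 : ℕ) : WithBot ℕ∞) := by
  rw [show (((finOpen f : X.Opens) : Set X)ᶜ : Set X) = ((fibD f 1 : Closeds X) : Set X) from compl_compl _]
  exact hD 1

omit [Y.IsSeparated] [AlgebraicGeometry.IsNoetherian X] [AlgebraicGeometry.IsNoetherian Y] [X.IsSeparated] [IsProper f] in
theorem subsingleton_HH_push_iff {M : Y.Modules} {n : ℕ} :
    Subsingleton (Coh.HH X ((Scheme.Modules.pushforward f).obj M) n) ↔
      Subsingleton (CohTop.H (X := X.toTopCat) ((CohTop.push (X := Y.toTopCat) (Y := X.toTopCat) f.base).obj (Coh.toAb M)) n) :=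
  Iff.rfl

/-- A composite of killing steps, surjective on top degree cohomology. -/
theorem exists_chain (hY : topologicalKrullDim Y ≤ (d : WithBot ℕ∞)) (hX : topologicalKrullDim X ≤ (d : WithBot ℕ∞))
    (hD : DimD (Y := X.toTopCat) (fibD f) d) :
    ∀ (k : ℕ) (G : Y.Modules), Coh.IsCoh G → ∃ G' : Y.Modules, Coh.IsCoh G' ∧
      ∀ E : X.Modules, Coh.IsCoh E → ∃ φ : CohB1.tensorMod G' (pullE f E) ⟶ CohB1.tensorMod G (pullE f E),
        Comp (X := Y.toTopCat) (Y := X.toTopCat) f.base {B : X.Opens | IsAffineOpen B} (fibD f) k _ _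
          ((toAbFunctor Y).map φ) ∧
        Function.Surjective (hMap ((Scheme.Modules.pushforward f).map φ) d) := by
  intro k
  induction k with
  | zero =>
    intro G hG
    refine ⟨G, hG, fun E _ => ⟨𝟙 _, trivial, fun x => ⟨x, ?_⟩⟩⟩
    rw [CategoryTheory.Functor.map_id, hMap_id]
  | succ k ih =>
    intro G hG
    obtain ⟨I, hI, hIs, hkill⟩ := exists_kill_step f G hG d hY
    obtain ⟨G', hG', h'⟩ := ih _ (isCoh_tensor hG (isCoh_pull f hI))
    refine ⟨G', hG', fun E hE => ?_⟩
    obtain ⟨φ, hφ, hφs⟩ := h' E hE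
    let ψ := tensorMap (kap f I G) (𝟙 (pullE f E))
    refine ⟨φ ≫ ψ, ⟨_, (toAbFunctor Y).map φ, (toAbFunctor Y).map ψ, (Functor.map_comp _ _ _).symm, hφ, hkill E hE⟩, ?_⟩
    have hs : Function.Surjective (hMap ((Scheme.Modules.pushforward f).map ψ) d) := by
      haveI := isQCoh_push_coh f (isCoh_tensor (isCoh_tensor hG (isCoh_pull f hI)) (isCoh_pull f hE))
      haveI := isQCoh_push_coh f (isCoh_tensor hG (isCoh_pull f hE))
      exact surjective_hMap_of_surjective hX (lt_of_lt_of_le (dim_compl_finOpen f hD)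
        (WithBot.coe_le_coe.2 (ENat.natCast_le_natCast.2 (Nat.sub_le d 1)))) _
        fun B hB hBV => surjective_push_kap f hG hI hIs hE hB hBV
    intro x
    obtain ⟨y, rfl⟩ := hs x
    obtain ⟨z, rfl⟩ := hφs y
    exact ⟨z, by rw [Functor.map_comp, hMap_comp]⟩

omit [AlgebraicGeometry.IsNoetherian Y] [Y.IsSeparated] in
/-- Degree zero, or the finite case: cohomology of the direct image. -/
theorem subsingleton_zero (hD : DimD (Y := X.toTopCat) (fibD f) 0) (M : Y.Modules) [Coh.IsQCoh M] :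
    Subsingleton (Coh.HH Y M 0) ↔ Subsingleton (Coh.HH X ((Scheme.Modules.pushforward f).obj M) 0) := by
  have hall : ∀ B : X.Opens, B ≤ finOpen f := fun B x _ hx => by
    haveI : Nonempty (IrreducibleCloseds ((fibD f 1 : Closeds X) : Set X)) :=
      ⟨⟨closure {⟨x, hx⟩}, isIrreducible_singleton.closure, isClosed_closure⟩⟩
    exact not_le.2 (hD 1) (by
      show ((0 : ℕ) : WithBot ℕ∞) ≤ topologicalKrullDim ((fibD f 1 : Closeds X) : Set X)
      exact_mod_cast (Order.krullDim_nonneg : (0 : WithBot ℕ∞) ≤ Order.krullDim (IrreducibleCloseds ((fibD f 1 : Closeds X) : Set X))))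
  haveI : IsAffineHom f := ⟨fun B hB => isAffine_preimage_of_le f hB (hall B)⟩
  exact (HHAffinePushEquiv f M 0).toEquiv.subsingleton_congr

variable (hE : ∀ n, Coh.IsCoh (E n)) (hY : topologicalKrullDim Y ≤ (d : WithBot ℕ∞))
  (hX : topologicalKrullDim X ≤ (d : WithBot ℕ∞)) (hD : DimD (Y := X.toTopCat) (fibD f) d)

include hE hY hX hD

/-- From `X` to `Y`, in the top degree. -/
theorem top_of_base (n : ℕ) (G : Y.Modules) (hG : Coh.IsCoh G)
    (h : Subsingleton (Coh.HH X (CohB1.tensorMod (E n) ((Scheme.Modules.pushforward f).obj G)) d)) :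
    Subsingleton (Coh.HH Y (CohB1.tensorMod G (pullE f (E n))) d) := by
  have hM := isCoh_tensor hG (isCoh_pull f (hE n))
  haveI := hM.1
  haveI := (hE n).1
  haveI := hG.1
  haveI := isQCoh_push_coh f hG
  haveI := isQCoh_push_coh f hM
  haveI : Coh.IsQCoh (CohB1.tensorMod (E n) ((Scheme.Modules.pushforward f).obj G)) := isQCoh_tensorMod _ _
  have h1 : Subsingleton (Coh.HH X ((Scheme.Modules.pushforward f).obj (CohB1.tensorMod G (pullE f (E n)))) d) :=
    subsingleton_top_of_surjective hX (lt_of_lt_of_le (dim_compl_finOpen f hD)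
      (WithBot.coe_le_coe.2 (ENat.natCast_le_natCast.2 (Nat.sub_le d 1)))) (projSwap f (E n) G)
      (fun B hB hBV => (bijective_projSwap f hB hBV).2) h
  rcases d with _ | d'
  · exact (subsingleton_zero f hD _).2 h1
  · haveI : NoetherianSpace X.toTopCat := inferInstanceAs (NoetherianSpace X)
    exact subsingleton_H_of_push (X := Y.toTopCat) (Y := X.toTopCat) (f := f.base) X.isBasis_affineOpens d' (fibD f)
      (Coh.toAb (CohB1.tensorMod G (pullE f (E n))))
      (fun q B hB hdis => subsingleton_HU_of_fibre_dim f _ hB q (fibre_le_of_disjoint f hdis)) hD h1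

/-- From `Y` to the direct images. -/
theorem push_of_top (hamp : ∀ G : Y.Modules, Coh.IsCoh G → ∃ n₀ : ℕ, ∀ n : ℕ, n₀ ≤ n →
      Subsingleton (Coh.HH Y (CohB1.tensorMod G (pullE f (E n))) d)) (G : Y.Modules) (hG : Coh.IsCoh G) :
    ∃ n₀ : ℕ, ∀ n : ℕ, n₀ ≤ n →
      Subsingleton (Coh.HH X ((Scheme.Modules.pushforward f).obj (CohB1.tensorMod G (pullE f (E n)))) d) := by
  rcases d with _ | d'
  · obtain ⟨n₀, h₀⟩ := hamp G hG
    refine ⟨n₀, fun n hn => ?_⟩
    haveI := (isCoh_tensor hG (isCoh_pull f (hE n))).1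
    exact (subsingleton_zero f hD _).1 (h₀ n hn)
  · haveI : NoetherianSpace X.toTopCat := inferInstanceAs (NoetherianSpace X)
    obtain ⟨G', hG', hch⟩ := exists_chain f hY hX hD d' G hG
    obtain ⟨n₀, h₀⟩ := hamp G' hG'
    refine ⟨n₀, fun n hn => subsingleton_of_forall_eq 0 fun x => ?_⟩
    obtain ⟨φ, hφ, hφs⟩ := hch (E n) (hE n)
    obtain ⟨y, rfl⟩ := hφs x
    exact comp_push_eq_zero (X := Y.toTopCat) (Y := X.toTopCat) (f := f.base) X.isBasis_affineOpens d' (fibD f)
      _ _ ((toAbFunctor Y).map φ) hφ hD (h₀ n hn) y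

end Groth.Agent.ResProp8
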