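import Groth.Agent.ResProp8.Image
import Groth.Agent.Coherent.Existence.Restrict
import Groth.Agent.RefHullLib.Hartogs
import Groth.Agent.AssSch12.Primary

/-!
# An ideal `I`, trivial over `U ⊓ V`, with `f_*(f^*I ⊗ f^*G ⊗ L^n)` in the image of `θ_n`
-/

set_option autoImplicit false
set_option backward.isDefEq.respectTransparency false
set_option backward.isDefEq.respectTransparency.types false

universe u

open CategoryTheory CategoryTheory.Limits AlgebraicGeometry Opposite TopologicalSpace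
open Groth.Agent.Coherent Groth.Agent.PicLib Groth.Agent.AmpleLib

namespace Groth.Agent.ResProp8

variable {X Y : Scheme.{u}} (f : Y ⟶ X) (V : X.Opens) {G F : X.Modules} {L : Y.Modules}
  (e : ((Scheme.Modules.pullback f).obj F).restrict (f ⁻¹ᵁ V).ι ≅ L.restrict (f ⁻¹ᵁ V).ι)

/-- `f^* I → O_Y`. -/
noncomputable def twj (I : X.IdealSheafData) :
    (Scheme.Modules.pullback f).obj (ClSub.idealMod I) ⟶ Coh.structureModule Y :=
  ((Scheme.Modules.pullbackPushforwardAdjunction f).homEquiv _ _).symm (ClSub.idealModι I ≫ ClSub.unitToPush f)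

theorem twj_pullSec (I : X.IdealSheafData) (O : X.Opens) (h : Γ(ClSub.idealMod I, O)) :
    (show Γ(Y, f ⁻¹ᵁ O) from (twj f I).app (f ⁻¹ᵁ O) (pullSec f h)) =
      f.app O (show Γ(X, O) from (ClSub.idealModι I).app O h) :=
  homEquiv_symm_app_pullSec f (ClSub.idealModι I ≫ ClSub.unitToPush f) h

/-- `A ⊗ f^* I → A`. -/
noncomputable def kap (I : X.IdealSheafData) (A : Y.Modules) :
    CohB1.tensorMod A ((Scheme.Modules.pullback f).obj (ClSub.idealMod I)) ⟶ A :=
  tensorMap (𝟙 A) (twj f I) ≫ (tensorComm A (Coh.structureModule Y)).hom ≫ (unitTensorIso A).hom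

theorem kap_tmul (I : X.IdealSheafData) (A : Y.Modules) (U : Y.Opens) (a : Γ(A, U))
    (q : Γ((Scheme.Modules.pullback f).obj (ClSub.idealMod I), U)) :
    (kap f I A).app U (tmul a q) = (show Γ(Y, U) from (twj f I).app U q) • a := by
  show (unitTensorIso A).hom.app U
    ((tensorComm A (Coh.structureModule Y)).hom.app U ((tensorMap (𝟙 A) (twj f I)).app U (tmul a q))) = _
  rw [tensorMap_tmul]
  refine (congrArg (fun t => (unitTensorIso A).hom.app U t) (Bilin.desc_tmul _ U _ _)).trans ?_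
  exact Bilin.desc_tmul _ U _ _

variable (G L) in
/-- `f^*G ⊗ f^*I`. -/
noncomputable abbrev twK (I : X.IdealSheafData) : Y.Modules :=
  CohB1.tensorMod ((Scheme.Modules.pullback f).obj G) ((Scheme.Modules.pullback f).obj (ClSub.idealMod I))

variable (G L) in
/-- `f_*(f^*G ⊗ f^*I ⊗ L^n) → TW (f^*G ⊗ L^n)`. -/
noncomputable def pMap (I : X.IdealSheafData) (n : ℕ) :
    (Scheme.Modules.pushforward f).obj (CohB1.tensorMod (twK f G I) (CohB1.tensorPow L n)) ⟶
      TW f V (twn f G L n) :=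
  (Scheme.Modules.pushforward f).map (tensorMap (kap f I _) (𝟙 (CohB1.tensorPow L n))) ≫
    toTW f V (twn f G L n)

variable {f V}

theorem smul_InIm {n : ℕ} {B : X.Opens} (hBV : B ≤ V) (hL : PicF.IsInvertible L) {a : Γ(X, B)}
    (hgen : ∀ z : Γ(TW f V (twn f G L (n + 1)), B),
      ∃ (r : ℕ) (w : Fin r → Γ(TW f V (twn f G L n), B)) (x : Fin r → Γ(F, B)),
        z = ∑ k, (mulTW f V G L hL n).app B (tmul (w k) ((twSec f V e).app B (x k))))
    (h : ∀ z : Γ(TW f V (twn f G L n), B), InIm f V e n B (a • z))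
    (z : Γ(TW f V (twn f G L (n + 1)), B)) : InIm f V e (n + 1) B (a • z) := by
  obtain ⟨r, w, x, rfl⟩ := hgen z
  rw [Finset.smul_sum]
  refine InIm.sum _ _ fun k _ => ?_
  rw [← Scheme.Modules.Hom.app_smul, ← tmul_smul_left]
  exact (h _).mul hL _

/-- For large `n` the direct image of `f^*I ⊗ f^*G ⊗ L^n` lies in the image. -/
theorem eventually_ideal [IsProper f] [IsNoetherian X] (hL : PicF.IsInvertible L) (hG : Coh.IsCoh G)
    {I : X.IdealSheafData} (hI : Coh.IsCoh (ClSub.idealMod I)) {B : X.affineOpens} (hBV : B.1 ≤ V)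
    (hamp : CohB1.IsAmple (L.restrict (f ⁻¹ᵁ B.1).ι)) (n₁ : ℕ)
    (h : ∀ a ∈ I.ideal B, ∀ n : ℕ, n₁ ≤ n → ∀ z : Γ(TW f V (twn f G L n), B.1), InIm f V e n B.1 (a • z)) :
    ∃ N : ℕ, ∀ n : ℕ, N ≤ n → ∀ z : Γ(CohB1.tensorMod (twK f G I) (CohB1.tensorPow L n), f ⁻¹ᵁ B.1),
      InIm f V e n B.1 ((pMap f V G L I n).app B.1 z) := by
  have : IsLocallyNoetherian Y := LocallyOfFiniteType.isLocallyNoetherian f
  have hA : Coh.IsCoh ((Scheme.Modules.pullback f).obj G) :=
    ⟨haveI := hG.1; EGA43.InjFibre.isQCoh_pullback f G, isFT_pullback_qcoh f hG.1 hG.2⟩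
  have hJ : Coh.IsCoh ((Scheme.Modules.pullback f).obj (ClSub.idealMod I)) :=
    ⟨haveI := hI.1; EGA43.InjFibre.isQCoh_pullback f _, isFT_pullback_qcoh f hI.1 hI.2⟩
  have hAQ : Coh.IsCoh (twK f G I) := haveI := hA.1; haveI := hJ.1; ⟨isQCoh_tensorMod _ _, isFT_tensorMod _ _ hA.2 hJ.2⟩
  obtain ⟨r, x, hx⟩ := exists_generators hI B
  have := hI.1
  obtain ⟨N, hN⟩ := eventually_span_mul f hL B hamp hA hAQ (fun k => pullSec f (x k))
    (fun U hU q y hy => by
      obtain ⟨U', hU'a, hy', hU'⟩ := exists_isAffine_nhd hy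
      refine ⟨U', hU', hy', ?_⟩
      have hspan := H8Lim.span_pullSec_eq_top f B.2 hU'a (hU'.trans hU) (ClSub.idealMod I) (Set.range x) hx
      rw [← Set.range_comp, eq_top_iff] at hspan
      obtain ⟨c, hc⟩ := (Submodule.mem_span_range_iff_exists_fun _).1
        (hspan (Submodule.mem_top (x := resM _ hU' q)))
      exact ⟨c, hc.symm⟩)
  refine ⟨max N n₁, fun n hn z => ?_⟩
  obtain ⟨a, ha⟩ := hN n ((le_max_left _ _).trans hn) (twn f G L n)
    (tensorMap (kap f I _) (𝟙 (CohB1.tensorPow L n))) (kap f I (twn f G L n))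
    (fun U a q p => by
      rw [kap_tmul, tensorMap_tmul, kap_tmul]
      exact (tmul_smul_left _ a p).symm) z
  have e1 : (pMap f V G L I n).app B.1 z = ∑ k,
      (show Γ(X, B.1) from (ClSub.idealModι I).app B.1 (x k)) •
        (toTW f V (twn f G L n)).app B.1 (a k) := by
    show (toTW f V (twn f G L n)).app B.1 ((tensorMap (kap f I _) (𝟙 _)).app (f ⁻¹ᵁ B.1) z) = _
    rw [ha]
    refine (map_sum ((toTW f V (twn f G L n)).app B.1).hom _ _).trans (Finset.sum_congr rfl fun k _ => ?_)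
    rw [kap_tmul, twj_pullSec]
    exact Scheme.Modules.Hom.app_smul (toTW f V (twn f G L n)) _
      (show Γ((Scheme.Modules.pushforward f).obj (twn f G L n), B.1) from a k)
  rw [e1]
  refine InIm.sum _ _ fun k _ => h _ ?_ n ((le_max_right _ _).trans hn) _
  rw [← I.ker_subschemeι_app B, RingHom.mem_ker]
  exact (mem_range_idealModι I B.1 _).1 ⟨x k, rfl⟩

/-- The ideal. -/
theorem exists_ideal [IsProper f] [IsNoetherian X] (hL : PicF.IsInvertible L) (hG : Coh.IsCoh G)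
    (hF : Coh.IsCoh F) {U : X.Opens} [IsIso (f ∣_ U)] (n₁ : ℕ) (t : Finset X.affineOpens) (ht : ∀ B ∈ t, B.1 ≤ V)
    (hgen : ∀ B ∈ t, ∀ n : ℕ, n₁ ≤ n → ∀ z : Γ(TW f V (twn f G L (n + 1)), B.1),
      ∃ (r : ℕ) (w : Fin r → Γ(TW f V (twn f G L n), B.1)) (x : Fin r → Γ(F, B.1)),
        z = ∑ k, (mulTW f V G L hL n).app B.1 (tmul (w k) ((twSec f V e).app B.1 (x k)))) :
    ∃ I : X.IdealSheafData, Coh.IsCoh (ClSub.idealMod I) ∧
      (∀ x : X, x ∈ U → x ∈ V → x ∉ (I.support : Set X)) ∧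
      ∀ B ∈ t, ∀ a ∈ I.ideal B, ∀ n : ℕ, n₁ ≤ n → ∀ z : Γ(TW f V (twn f G L n), B.1),
        InIm f V e n B.1 (a • z) := by
  have : IsLocallyNoetherian Y := LocallyOfFiniteType.isLocallyNoetherian f
  have : QuasiCompact (f ⁻¹ᵁ V).ι := inferInstance
  have hA : Coh.IsCoh ((Scheme.Modules.pullback f).obj G) :=
    ⟨haveI := hG.1; EGA43.InjFibre.isQCoh_pullback f G, isFT_pullback_qcoh f hG.1 hG.2⟩
  have hT : Coh.IsCoh (twn f G L n₁) := EulerLib.isCoh_twist (isInvertible_tensorPow hL n₁) hA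
  have : Coh.IsQCoh (TW f V (twn f G L n₁)) := by
    have := RefHullLib.isQCoh_push_restrict (twn f G L n₁) hT.1 (f ⁻¹ᵁ V)
    exact isQCoh_push f _
  have : Coh.IsQCoh G := hG.1
  have : Coh.IsQCoh F := hF.1
  have : Coh.IsQCoh (CohB1.tensorPow F n₁) := TPowGen8.isQCoh_tensorPow n₁
  have : Coh.IsQCoh (CohB1.tensorMod G (CohB1.tensorPow F n₁)) := isQCoh_tensorMod _ _
  let θ := theta f V G e n₁
  have : Coh.IsQCoh (cokernel θ) := isQCoh_cokernel θ
  let M0 := (Scheme.Modules.pushforward f).obj (twn f G L n₁)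
  have hM0 : Coh.IsCoh M0 := Coherent.Existence.isCoh_push_of_isProper f hT
  have := hM0.1
  let ρ : M0 ⟶ cokernel θ := toTW f V (twn f G L n₁) ≫ cokernel.π θ
  have hRq : Coh.IsQCoh (Abelian.image ρ) := isQCoh_image ρ
  have hR : Coh.IsCoh (Abelian.image ρ) :=
    AssSch12.isCoh_of_epi _ (Abelian.factorThruImage ρ) hRq (locallyFinGen_of_isFT _ hM0.2)
  let I := annSheaf hR.1 hR.2
  refine ⟨I, isCoh_idealMod I fun B => (IsLocallyNoetherian.component_noetherian B).noetherian _, ?_, ?_⟩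
  · intro x hxU hxV hx
    rw [support_annSheaf] at hx
    refine hx (subsingleton_of_forall_eq 0 fun s => ?_)
    obtain ⟨W, hxW, w, rfl⟩ := (Abelian.image ρ).presheaf.exists_germ_eq s
    obtain ⟨W₁, h₁, hx₁, b, hb⟩ := Coherent.exists_lift_of_epi (Abelian.factorThruImage ρ) W w x hxW
    obtain ⟨O, hxO, -, hO⟩ := exists_nhd_bijective_theta f V e (G := G) hL hxU hxV
    obtain ⟨c, hc⟩ := (hO n₁ (W₁ ⊓ O) inf_le_right).2 ((toTW f V (twn f G L n₁)).app (W₁ ⊓ O) (resM M0 inf_le_left b))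
    have h0 : ρ.app (W₁ ⊓ O) (resM M0 inf_le_left b) = 0 := by
      show (cokernel.π θ).app _ ((toTW f V (twn f G L n₁)).app _ (resM M0 inf_le_left b)) = 0
      rw [← hc]
      exact ConcreteCategory.congr_hom (congrArg (fun φ : _ ⟶ cokernel θ => φ.app (W₁ ⊓ O)) (cokernel.condition θ)) c
    have h1 : resM (Abelian.image ρ) (inf_le_left.trans h₁ : W₁ ⊓ O ≤ W) w = 0 := by
      rw [← resM_resM _ h₁ (inf_le_left : W₁ ⊓ O ≤ W₁), ← hb, ← app_resM]
      apply app_injective_of_mono (Abelian.image.ι ρ)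
      rw [map_zero, ← ConcreteCategory.comp_apply, ← Scheme.Modules.Hom.comp_app, Abelian.image.fac]
      exact h0
    erw [← TopCat.Presheaf.germ_res_apply _ (homOfLE (inf_le_left.trans h₁ : W₁ ⊓ O ≤ W)) x ⟨hx₁, hxO⟩ w]
    exact (congrArg ((Abelian.image ρ).presheaf.germ (W₁ ⊓ O) x ⟨hx₁, hxO⟩) h1).trans (map_zero _)
  · intro B hB a ha n hn
    induction n, hn using Nat.le_induction with
    | succ n hn ih => exact fun z => smul_InIm e (ht B hB) hL (hgen B hB n hn) ih z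
    | base =>
      intro z
      obtain ⟨z₀, hz₀⟩ := (bijective_toTW f V (twn f G L n₁) (ht B hB)).2 z
      have h0 : a • (Abelian.factorThruImage ρ).app B.1 z₀ = 0 := killed_annSheaf hR.1 hR.2 B a ha _
      have h1 : (cokernel.π θ).app B.1 (a • z) = 0 := by
        rw [Scheme.Modules.Hom.app_smul, ← hz₀]
        show a • ρ.app B.1 z₀ = 0
        rw [← Abelian.image.fac ρ, Scheme.Modules.Hom.comp_app, ConcreteCategory.comp_apply,
          ← Scheme.Modules.Hom.app_smul, h0, map_zero]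
      obtain ⟨k, hk⟩ := kernel_sections_exact (cokernel.π θ) (a • z) h1
      intro x hx
      obtain ⟨W, hW, hxW, c, hc⟩ := Coherent.exists_lift_of_epi (Abelian.factorThruImage θ) B.1 k x hx
      refine ⟨W, hW, hxW, c, ?_⟩
      show θ.app W c = _
      rw [← Abelian.image.fac θ, Scheme.Modules.Hom.comp_app, ConcreteCategory.comp_apply, hc, app_resM]
      exact congrArg (resM _ hW) hk

end Groth.Agent.ResProp8
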