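import Groth.Agent.ResProp8.Span
import Groth.Agent.Coherent.Serre.RightMul
import Groth.Agent.H8Lim.ModSections

/-!
# High twists of `A ⊗ Q` are spanned by products with finitely many sections spanning `Q`
-/

set_option autoImplicit false
set_option backward.isDefEq.respectTransparency false
set_option backward.isDefEq.respectTransparency.types false

universe u

open CategoryTheory CategoryTheory.Limits AlgebraicGeometry Opposite TopologicalSpace
open Groth.Agent.Coherent Groth.Agent.PicLib Groth.Agent.AmpleLib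

namespace Groth.Agent.ResProp8

variable {X Y : Scheme.{u}}

theorem sum_app_apply {M : Y.Modules} {U V : Y.Opens} (h : U ≤ V) {κ : Type} [Fintype κ] (a : κ → Γ(M, V)) :
    resM M h (∑ k, a k) = ∑ k, resM M h (a k) := map_sum _ _ _

/-- If the sections `s k` of `Q` span locally on `f⁻¹B`, high twists of `A ⊗ Q` are spanned by the products. -/
theorem eventually_span_mul (f : Y ⟶ X) [IsProper f] [IsLocallyNoetherian X] {L : Y.Modules}
    (hL : PicF.IsInvertible L) (B : X.affineOpens) (hamp : CohB1.IsAmple (L.restrict (f ⁻¹ᵁ B.1).ι))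
    {A Q : Y.Modules} (hA : Coh.IsCoh A) (hAQ : Coh.IsCoh (CohB1.tensorMod A Q)) {κ : Type} [Fintype κ]
    (s : κ → Γ(Q, f ⁻¹ᵁ B.1))
    (hs : ∀ (U : Y.Opens) (hU : U ≤ f ⁻¹ᵁ B.1) (q : Γ(Q, U)), ∀ y ∈ U, ∃ (U' : Y.Opens) (h : U' ≤ U), y ∈ U' ∧
      ∃ r : κ → Γ(Y, U'), resM Q h q = ∑ k, r k • resM Q (h.trans hU) (s k)) :
    ∃ N : ℕ, ∀ n : ℕ, N ≤ n → ∀ (T : Y.Modules)
      (hh : CohB1.tensorMod (CohB1.tensorMod A Q) (CohB1.tensorPow L n) ⟶ T)
      (mm : CohB1.tensorMod (CohB1.tensorMod A (CohB1.tensorPow L n)) Q ⟶ T),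
      (∀ (U : Y.Opens) (a : Γ(A, U)) (q : Γ(Q, U)) (p : Γ(CohB1.tensorPow L n, U)),
        mm.app U (tmul (tmul a p) q) = hh.app U (tmul (tmul a q) p)) →
      ∀ z : Γ(CohB1.tensorMod (CohB1.tensorMod A Q) (CohB1.tensorPow L n), f ⁻¹ᵁ B.1),
        ∃ a : κ → Γ(CohB1.tensorMod A (CohB1.tensorPow L n), f ⁻¹ᵁ B.1),
          hh.app (f ⁻¹ᵁ B.1) z = ∑ k, mm.app (f ⁻¹ᵁ B.1) (tmul (a k) (s k)) := by
  classical
  let W := f ⁻¹ᵁ B.1
  let j := W.ι
  have hW : j ''ᵁ ⊤ ≤ W := (W.ι_image_top).le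
  have hW' : W ≤ j ''ᵁ ⊤ := (W.ι_image_top).ge
  let s' : κ → Γ(Q.restrict j, ⊤) := fun k => (show Γ(Q, j ''ᵁ ⊤) from resM Q hW (s k))
  let u : κ → (A.restrict j ⟶ (CohB1.tensorMod A Q).restrict j) := fun k =>
    Serre.rightMul (A.restrict j) (s' k) ≫ restrictTensorHom j A Q
  have hu_app : ∀ (O : W.toScheme.Opens) (k : κ) (a : Γ(A, j ''ᵁ O)),
      (show Γ(CohB1.tensorMod A Q, j ''ᵁ O) from (u k).app O a) =
        tmul a (resM Q ((j.image_mono le_top).trans hW) (s k)) := by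
    intro O k a
    show (restrictTensorHom j A Q).app O ((Serre.rightMul (A.restrict j) (s' k)).app O a) = _
    rw [Serre.rightMul_app]
    refine (restrictTensorHom_tmul j A Q O a _).trans ?_
    show tmul a (resM Q (j.image_mono le_top) (resM Q hW (s k))) = _
    rw [resM_resM]
  -- local joint surjectivity, on opens of `Y`
  have key : ∀ (U : Y.Opens) (c : Γ(CohB1.tensorMod A Q, U)) (hU : U ≤ W), ∀ y ∈ U,
      ∃ (U' : Y.Opens) (h : U' ≤ U), y ∈ U' ∧
        ∃ a : κ → Γ(A, U'), resM _ h c = ∑ k, tmul (a k) (resM Q (h.trans hU) (s k)) := by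
    intro U c
    refine AmpleLib.induction_local (L := A) (M := Q)
      (P := fun U c => ∀ (hU : U ≤ W), ∀ y ∈ U, ∃ (U' : Y.Opens) (h : U' ≤ U), y ∈ U' ∧
        ∃ a : κ → Γ(A, U'), resM _ h c = ∑ k, tmul (a k) (resM Q (h.trans hU) (s k))) ?_ ?_ ?_ ?_ U c
    · intro U z z' hz hz' hU y hy
      obtain ⟨U₁, h₁, hy₁, a, ha⟩ := hz hU y hy
      obtain ⟨U₂, h₂, hy₂, b, hb⟩ := hz' hU y hy
      refine ⟨U₁ ⊓ U₂, inf_le_left.trans h₁, ⟨hy₁, hy₂⟩,
        fun k => resM A inf_le_left (a k) + resM A inf_le_right (b k), ?_⟩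
      have e1 := congrArg (resM _ (inf_le_left : U₁ ⊓ U₂ ≤ U₁)) ha
      have e2 := congrArg (resM _ (inf_le_right : U₁ ⊓ U₂ ≤ U₂)) hb
      simp only [sum_app_apply, resM_resM, resM_tmul] at e1 e2
      rw [map_add, e1, e2, ← Finset.sum_add_distrib]
      exact Finset.sum_congr rfl fun k _ => (tmul_add_left _ _ _).symm
    · intro U hU y hy
      exact ⟨U, le_rfl, hy, 0, by simp [tmul_zero_left]⟩
    · intro U z hz hU y hy
      obtain ⟨U₁, h₁, hy₁, hP⟩ := hz y hy
      obtain ⟨U₂, h₂, hy₂, a, ha⟩ := hP (h₁.trans hU) y hy₁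
      exact ⟨U₂, h₂.trans h₁, hy₂, a, by rw [← resM_resM _ h₁ h₂, ha]⟩
    · intro U a q hU y hy
      obtain ⟨U', h, hy', r, hr⟩ := hs U hU q y hy
      refine ⟨U', h, hy', fun k => r k • resM A h a, ?_⟩
      rw [resM_tmul, hr]
      let T : Γ(Q, U') →+ Γ(CohB1.tensorMod A Q, U') :=
        AddMonoidHom.mk' (fun t => tmul (resM A h a) t) (fun t t' => tmul_add_right _ t t')
      refine (map_sum T _ _).trans (Finset.sum_congr rfl fun k _ => ?_)
      show tmul (resM A h a) (r k • resM Q (h.trans hU) (s k)) = tmul (r k • resM A h a) _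
      rw [tmul_smul_left, tmul_smul_right]
  have hu : ∀ (O : W.toScheme.Opens) (c : Γ((CohB1.tensorMod A Q).restrict j, O)), ∀ y ∈ O,
      ∃ (O' : W.toScheme.Opens) (h : O' ≤ O), y ∈ O' ∧
        ∃ a : κ → Γ(A.restrict j, O'), ∑ k, (u k).app O' (a k) = resM _ h c := by
    intro O c y hy
    obtain ⟨U', h, hy', a, ha⟩ := key (j ''ᵁ O) c ((j.image_mono le_top).trans hW) y.1 ⟨y, hy, rfl⟩
    have hle : j ''ᵁ (O ⊓ j ⁻¹ᵁ U') ≤ U' := (j.image_mono inf_le_right).trans (j.image_preimage_le U')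
    refine ⟨O ⊓ j ⁻¹ᵁ U', inf_le_left, ⟨hy, hy'⟩, fun k => (show Γ(A, j ''ᵁ (O ⊓ j ⁻¹ᵁ U')) from resM A hle (a k)), ?_⟩
    have e1 := congrArg (resM _ hle) ha
    simp only [sum_app_apply, resM_resM, resM_tmul] at e1
    refine Eq.trans ?_ e1.symm
    exact Finset.sum_congr rfl fun k _ => hu_app _ k _
  obtain ⟨N, hN⟩ := eventually_span f hL B hamp hA hAQ u hu
  refine ⟨N, fun n hn T hh mm hcompat z => ?_⟩
  let P := CohB1.tensorPow L n
  have hP : PicF.IsInvertible P := isInvertible_tensorPow hL n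
  have hiso : IsIso (restrictTensorHom j (CohB1.tensorMod A Q) P) := isIso_restrictTensorHom j _ _ hP
  obtain ⟨z₀, hz₀⟩ := (ConcreteCategory.bijective_of_isIso
    ((restrictTensorHom j (CohB1.tensorMod A Q) P).app ⊤)).2
    (show Γ(CohB1.tensorMod (CohB1.tensorMod A Q) P, j ''ᵁ ⊤) from resM _ hW z)
  obtain ⟨a, ha⟩ := hN n hn z₀
  refine ⟨fun k => resM _ hW' ((restrictTensorHom j A P).app ⊤ (a k) : Γ(CohB1.tensorMod A P, j ''ᵁ ⊤)), ?_⟩
  have hid : ∀ k, hh.app (j ''ᵁ ⊤)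
      ((restrictTensorHom j (CohB1.tensorMod A Q) P).app ⊤ ((tensorMap (u k) (𝟙 _)).app ⊤ (a k))) =
      mm.app (j ''ᵁ ⊤) (tmul ((restrictTensorHom j A P).app ⊤ (a k) : Γ(CohB1.tensorMod A P, j ''ᵁ ⊤))
        (resM Q hW (s k))) := by
    intro k
    refine AmpleLib.induction_local (L := A.restrict j) (M := P.restrict j)
      (P := fun O t => hh.app (j ''ᵁ O)
        ((restrictTensorHom j (CohB1.tensorMod A Q) P).app O ((tensorMap (u k) (𝟙 _)).app O t)) =
        mm.app (j ''ᵁ O) (tmul ((restrictTensorHom j A P).app O t : Γ(CohB1.tensorMod A P, j ''ᵁ O))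
          (resM Q ((j.image_mono le_top).trans hW) (s k)))) ?_ ?_ ?_ ?_ ⊤ (a k)
    · intro O t t' h h'
      rw [map_add, map_add]
      refine (map_add (hh.app (j ''ᵁ O)).hom _ _).trans ?_
      refine Eq.trans (congrArg₂ (· + ·) h h') ?_
      rw [map_add]
      refine Eq.trans ?_ (congrArg (mm.app (j ''ᵁ O)) (tmul_add_left _ _ _)).symm
      exact (map_add (mm.app (j ''ᵁ O)).hom _ _).symm
    · intro O
      rw [map_zero, map_zero]
      refine (map_zero (hh.app (j ''ᵁ O)).hom).trans ?_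
      have e0 : (tmul (L := CohB1.tensorMod A P) (U := j ''ᵁ O)
          (show Γ(CohB1.tensorMod A P, j ''ᵁ O) from (restrictTensorHom j A P).app O 0)
          (resM Q ((j.image_mono le_top).trans hW) (s k))) = 0 := by
        rw [show (show Γ(CohB1.tensorMod A P, j ''ᵁ O) from (restrictTensorHom j A P).app O 0) = 0 from
          map_zero ((restrictTensorHom j A P).app O).hom]
        exact tmul_zero_left _
      refine Eq.trans ?_ (congrArg (mm.app (j ''ᵁ O)) e0).symm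
      exact (map_zero (mm.app (j ''ᵁ O)).hom).symm
    · intro O t hloc
      refine sec_ext T _ _ fun y hy => ?_
      obtain ⟨w, hw, rfl⟩ := hy
      obtain ⟨O', h', hw', hP'⟩ := hloc w hw
      refine ⟨j ''ᵁ O', j.image_mono h', ⟨w, hw', rfl⟩, ?_⟩
      rw [← app_resM, ← app_resM, resM_tmul, resM_resM]
      rw [app_resM, app_resM, app_resM] at hP'
      exact hP'
    · intro O x p
      rw [tensorMap_tmul, restrictTensorHom_tmul, restrictTensorHom_tmul]
      refine Eq.trans ?_ (hcompat _ _ _ _).symm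
      exact congrArg (fun t => hh.app (j ''ᵁ O) (tmul t p)) (hu_app O k x)
  have hz1 : resM _ hW z = ∑ k, (show Γ(CohB1.tensorMod (CohB1.tensorMod A Q) P, j ''ᵁ ⊤) from
      (restrictTensorHom j (CohB1.tensorMod A Q) P).app ⊤ ((tensorMap (u k) (𝟙 _)).app ⊤ (a k))) := by
    refine hz₀.symm.trans ?_
    rw [ha, map_sum]
  have hz2 : hh.app W z = resM T hW' (hh.app (j ''ᵁ ⊤) (resM _ hW z)) := by
    rw [← app_resM, resM_resM, resM_self]
  rw [hz2, hz1, map_sum, map_sum]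
  refine Finset.sum_congr rfl fun k _ => ?_
  rw [hid, ← app_resM, resM_tmul, resM_resM, resM_self]

end Groth.Agent.ResProp8
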