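import Groth.Agent.ResProp8.Theta
import Groth.Agent.ResProp8.SpanMul
import Groth.Agent.Coherent.FinitePres
import Groth.Agent.AmpleLib.FTIdeal
import Groth.Agent.Coherent.AnnSheaf

/-!
# The image of `θ_n` in high degrees
-/

set_option autoImplicit false
set_option backward.isDefEq.respectTransparency false
set_option backward.isDefEq.respectTransparency.types false

universe u

open CategoryTheory CategoryTheory.Limits AlgebraicGeometry Opposite TopologicalSpace
open Groth.Agent.Coherent Groth.Agent.PicLib Groth.Agent.AmpleLib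

namespace Groth.Agent.ResProp8

variable {X Y : Scheme.{u}} (f : Y ⟶ X) (V : X.Opens) {G F : X.Modules} {L : Y.Modules}
  (e : ((Scheme.Modules.pullback f).obj F).restrict (f ⁻¹ᵁ V).ι ≅ L.restrict (f ⁻¹ᵁ V).ι)

variable (G L) in
/-- `f^*G ⊗ L^n`. -/
noncomputable abbrev twn (n : ℕ) : Y.Modules :=
  CohB1.tensorMod ((Scheme.Modules.pullback f).obj G) (CohB1.tensorPow L n)

/-- A section lies locally in the image of `θ_n`. -/
def InIm (n : ℕ) (O : X.Opens) (z : Γ(TW f V (twn f G L n), O)) : Prop :=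
  ∀ x ∈ O, ∃ (O' : X.Opens) (h : O' ≤ O), x ∈ O' ∧ ∃ a, (theta f V G e n).app O' a = resM _ h z

variable {f V e}

theorem InIm.of_eq {n : ℕ} {O : X.Opens} (a) : InIm f V e n O ((theta f V G e n).app O a) :=
  fun x hx => ⟨O, le_rfl, hx, a, (resM_self (TW f V (twn f G L n)) le_rfl _).symm⟩

theorem InIm.add {n : ℕ} {O : X.Opens} {z z' : Γ(TW f V (twn f G L n), O)}
    (h : InIm f V e n O z) (h' : InIm f V e n O z') : InIm f V e n O (z + z') := fun x hx => by
  obtain ⟨O₁, h₁, hx₁, a, ha⟩ := h x hx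
  obtain ⟨O₂, h₂, hx₂, b, hb⟩ := h' x hx
  refine ⟨O₁ ⊓ O₂, inf_le_left.trans h₁, ⟨hx₁, hx₂⟩, resM _ inf_le_left a + resM _ inf_le_right b, ?_⟩
  rw [map_add, map_add, app_resM, app_resM, ha, hb, resM_resM, resM_resM]

theorem InIm.zero {n : ℕ} {O : X.Opens} : InIm f V e n O (0 : Γ(TW f V (twn f G L n), O)) :=
  fun x hx => ⟨O, le_rfl, hx, 0, by rw [map_zero, map_zero]⟩

theorem InIm.sum {n : ℕ} {O : X.Opens} {κ : Type} (t : Finset κ) (z : κ → Γ(TW f V (twn f G L n), O))
    (h : ∀ k ∈ t, InIm f V e n O (z k)) : InIm f V e n O (∑ k ∈ t, z k) := by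
  classical
  induction t using Finset.induction with
  | empty => exact InIm.zero
  | insert k t hk ih =>
    rw [Finset.sum_insert hk]
    exact (h k (Finset.mem_insert_self k t)).add (ih fun i hi => h i (Finset.mem_insert_of_mem hi))

theorem InIm.res {n : ℕ} {O : X.Opens} {z : Γ(TW f V (twn f G L n), O)} (h : InIm f V e n O z)
    {O' : X.Opens} (hO : O' ≤ O) : InIm f V e n O' (resM _ hO z) := fun x hx => by
  obtain ⟨O₁, h₁, hx₁, a, ha⟩ := h x (hO hx)
  refine ⟨O₁ ⊓ O', inf_le_right, ⟨hx₁, hx⟩, resM _ inf_le_left a, ?_⟩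
  rw [app_resM, ha, resM_resM, resM_resM]

theorem InIm.of_local {n : ℕ} {O : X.Opens} {z : Γ(TW f V (twn f G L n), O)}
    (h : ∀ x ∈ O, ∃ (O' : X.Opens) (hO : O' ≤ O), x ∈ O' ∧ InIm f V e n O' (resM _ hO z)) :
    InIm f V e n O z := fun x hx => by
  obtain ⟨O', hO, hx', h'⟩ := h x hx
  obtain ⟨O₁, h₁, hx₁, a, ha⟩ := h' x hx'
  exact ⟨O₁, h₁.trans hO, hx₁, a, by rw [ha, resM_resM]⟩

variable (f V)

variable (G L) in
/-- Reassociation `(f^*G ⊗ L^n) ⊗ L → f^*G ⊗ L^(n+1)`. -/
noncomputable def mulA (hL : PicF.IsInvertible L) (n : ℕ) :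
    CohB1.tensorMod (twn f G L n) L ⟶ twn f G L (n + 1) :=
  (exists_assocHom ((Scheme.Modules.pullback f).obj G) L (isInvertible_tensorPow hL n)).choose

theorem mulA_tmul (hL : PicF.IsInvertible L) (n : ℕ) (U : Y.Opens)
    (a : Γ((Scheme.Modules.pullback f).obj G, U)) (p : Γ(CohB1.tensorPow L n, U)) (s : Γ(L, U)) :
    (mulA f G L hL n).app U (tmul (tmul a p) s) = tmul a (tmul p s) :=
  (exists_assocHom ((Scheme.Modules.pullback f).obj G) L (isInvertible_tensorPow hL n)).choose_spec U a p s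

variable (G L) in
/-- Multiplication on `TW`. -/
noncomputable def mulTW (hL : PicF.IsInvertible L) (n : ℕ) :
    CohB1.tensorMod (TW f V (twn f G L n)) (TW f V L) ⟶ TW f V (twn f G L (n + 1)) :=
  twLax f V _ L ≫ twMap f V (mulA f G L hL n)

theorem mulTW_tmul (hL : PicF.IsInvertible L) (n : ℕ) (O : X.Opens)
    (z : Γ(twn f G L n, wOp f V O)) (s : Γ(L, wOp f V O)) :
    (show Γ(twn f G L (n + 1), wOp f V O) from
      (mulTW f V G L hL n).app O (tmul (L := TW f V (twn f G L n)) (M := TW f V L) z s)) =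
      (mulA f G L hL n).app (wOp f V O) (tmul z s) := by
  refine (twMap_app f V (mulA f G L hL n) O _).trans ?_
  exact congrArg (fun t => (mulA f G L hL n).app (wOp f V O) t) (twLax_tmul f V _ L O z s)

variable {f V}

/-- The local image is stable under multiplication by `σ`. -/
theorem InIm.mul (hL : PicF.IsInvertible L) {n : ℕ} {O : X.Opens} {z : Γ(TW f V (twn f G L n), O)}
    (h : InIm f V e n O z) (x : Γ(F, O)) :
    InIm f V e (n + 1) O ((mulTW f V G L hL n).app O (tmul z ((twSec f V e).app O x))) := by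
  refine InIm.of_local fun y hy => ?_
  obtain ⟨O', hO, hy', a, ha⟩ := h y hy
  refine ⟨O', hO, hy', ?_⟩
  rw [← app_resM, resM_tmul, ← ha, ← app_resM (twSec f V e) hO x]
  refine AmpleLib.induction_local (L := G) (M := CohB1.tensorPow F n)
    (P := fun U a => ∀ x' : Γ(F, U), InIm f V e (n + 1) U
      ((mulTW f V G L hL n).app U (tmul ((theta f V G e n).app U a) ((twSec f V e).app U x'))))
    ?_ ?_ ?_ ?_ O' a (resM F hO x)
  · intro U b b' hb hb' x'
    rw [map_add, tmul_add_left, map_add]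
    exact (hb x').add (hb' x')
  · intro U x'
    rw [map_zero, tmul_zero_left, map_zero]
    exact InIm.zero
  · intro U b hb x'
    refine InIm.of_local fun w hw => ?_
    obtain ⟨U', hU, hw', hP⟩ := hb w hw
    refine ⟨U', hU, hw', ?_⟩
    rw [← app_resM, resM_tmul, ← app_resM, ← app_resM]
    exact hP _
  · intro U g p x'
    have e1 : (mulTW f V G L hL n).app U (tmul ((theta f V G e n).app U (tmul g p)) ((twSec f V e).app U x')) =
        (theta f V G e (n + 1)).app U (tmul g (tmul p x')) := by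
      show (show Γ(twn f G L (n + 1), wOp f V U) from _) = (show Γ(twn f G L (n + 1), wOp f V U) from _)
      refine (mulTW_tmul f V hL n U _ _).trans ?_
      refine (congrArg (fun t => (mulA f G L hL n).app (wOp f V U) (tmul t
        (show Γ(L, wOp f V U) from (twSec f V e).app U x'))) (theta_tmul f V e n U g p)).trans ?_
      refine (mulA_tmul f hL n _ _ _ _).trans ?_
      refine Eq.trans ?_ (theta_tmul f V e (n + 1) U g (tmul p x')).symm
      exact congrArg (fun t => tmul _ t) (twPow_succ_tmul f V e n U p x').symm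
    rw [e1]
    exact InIm.of_eq _

theorem exists_generators (hF : Coh.IsCoh F) [IsLocallyNoetherian X] (B : X.affineOpens) :
    ∃ (r : ℕ) (x : Fin r → Γ(F, B.1)), Submodule.span Γ(X, B.1) (Set.range x) = ⊤ := by
  have := ((isCoh_iff_finite_sections F).1 hF).2 B.1 B.2
  exact Module.Finite.exists_fin

theorem exists_isAffine_nhd {U : Y.Opens} {y : Y} (hy : y ∈ U) :
    ∃ U' : Y.Opens, IsAffineOpen U' ∧ y ∈ U' ∧ U' ≤ U :=
  Opens.isBasis_iff_nbhd.mp Y.isBasis_affineOpens hy

/-- Sections of `L` near a point of `f⁻¹B` are combinations of the images of generators of `F` over `B`. -/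
theorem sec_local_span (hF : Coh.IsCoh F) {B : X.affineOpens} (hBV : B.1 ≤ V) {κ : Type} [Fintype κ]
    (x : κ → Γ(F, B.1)) (hx : Submodule.span Γ(X, B.1) (Set.range x) = ⊤)
    (U : Y.Opens) (hU : U ≤ f ⁻¹ᵁ B.1) (q : Γ(L, U)) (y : Y) (hy : y ∈ U) :
    ∃ (U' : Y.Opens) (h : U' ≤ U), y ∈ U' ∧ ∃ r : κ → Γ(Y, U'), resM L h q =
      ∑ k, r k • resM L ((h.trans hU).trans (le_wOp f V hBV))
        (show Γ(L, wOp f V B.1) from (twSec f V e).app B.1 (x k)) := by
  have := hF.1
  obtain ⟨U', hU'a, hy', hU'⟩ := exists_isAffine_nhd hy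
  refine ⟨U', hU', hy', ?_⟩
  let ι := (f ⁻¹ᵁ V).ι
  let ηL := (Scheme.Modules.restrictAdjunction ι).unit.app L
  let ê : (Scheme.Modules.pullback f).obj F ⟶ (Scheme.Modules.pushforward ι).obj (L.restrict ι) :=
    (Scheme.Modules.restrictAdjunction ι).unit.app _ ≫ (Scheme.Modules.pushforward ι).map e.hom
  have hU'V : U' ≤ f ⁻¹ᵁ V := (hU'.trans hU).trans (f.preimage_mono hBV)
  have hη : Function.Bijective (ηL.app U') := FinPush14.bijective_unit_app L (f ⁻¹ᵁ V) hU'V
  have hê : Function.Bijective (ê.app U') :=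
    (ConcreteCategory.bijective_of_isIso (e.hom.app (ι ⁻¹ᵁ U'))).comp
      (FinPush14.bijective_unit_app _ (f ⁻¹ᵁ V) hU'V)
  obtain ⟨w, hw⟩ := hê.2 (ηL.app U' (resM L hU' q))
  have hspan := H8Lim.span_pullSec_eq_top f B.2 hU'a (hU'.trans hU) F (Set.range x) hx
  rw [← Set.range_comp, eq_top_iff] at hspan
  obtain ⟨r, hr⟩ := (Submodule.mem_span_range_iff_exists_fun _).1 (hspan (Submodule.mem_top (x := w)))
  refine ⟨r, hη.1 ?_⟩
  rw [← hw, ← hr, map_sum, map_sum]
  refine Finset.sum_congr rfl fun k _ => ?_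
  rw [Scheme.Modules.Hom.app_smul, Scheme.Modules.Hom.app_smul]
  refine congrArg (r k • ·) ?_
  show ê.app U' (resM _ (hU'.trans hU) (pullSec f (x k))) = ηL.app U' _
  rw [app_resM]
  show resM L _ (show Γ(L, wOp f V B.1) from (twSec f V e).app B.1 (x k)) =
    resM L (ι.image_preimage_le U') (resM L _ _)
  rw [resM_resM]

/-- Step one: for large `n` the degree `n + 1` is spanned by products with `σ`. -/
theorem eventually_gen [IsProper f] [IsNoetherian X] (hL : PicF.IsInvertible L) (hG : Coh.IsCoh G)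
    (hF : Coh.IsCoh F) {B : X.affineOpens} (hBV : B.1 ≤ V) (hamp : CohB1.IsAmple (L.restrict (f ⁻¹ᵁ B.1).ι)) :
    ∃ N : ℕ, ∀ n : ℕ, N ≤ n → ∀ z : Γ(TW f V (twn f G L (n + 1)), B.1),
      ∃ (r : ℕ) (w : Fin r → Γ(TW f V (twn f G L n), B.1)) (x : Fin r → Γ(F, B.1)),
        z = ∑ k, (mulTW f V G L hL n).app B.1 (tmul (w k) ((twSec f V e).app B.1 (x k))) := by
  have : IsLocallyNoetherian Y := LocallyOfFiniteType.isLocallyNoetherian f
  have hA : Coh.IsCoh ((Scheme.Modules.pullback f).obj G) := (⟨haveI := hG.1; EGA43.InjFibre.isQCoh_pullback f G, isFT_pullback_qcoh f hG.1 hG.2⟩)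
  have hAQ := EulerLib.isCoh_twist hL hA
  obtain ⟨r, x, hx⟩ := exists_generators hF B
  obtain ⟨N, hN⟩ := eventually_span_mul f hL B hamp hA hAQ
    (fun k => resM L (le_wOp f V hBV) (show Γ(L, wOp f V B.1) from (twSec f V e).app B.1 (x k)))
    (fun U hU q y hy => by
      obtain ⟨U', h, hy', c, hc⟩ := sec_local_span hF hBV x hx U hU q y hy
      exact ⟨U', h, hy', c, hc.trans (Finset.sum_congr rfl fun k _ => by rw [resM_resM])⟩)
  refine ⟨N, fun n hn z => ?_⟩
  let N' := (Scheme.Modules.pullback f).obj G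
  let P := CohB1.tensorPow L n
  have hP : PicF.IsInvertible P := isInvertible_tensorPow hL n
  obtain ⟨α, hα⟩ := exists_assocHom N' P hL
  let γ : CohB1.tensorMod (CohB1.tensorMod N' L) P ⟶ twn f G L (n + 1) :=
    α ≫ tensorMap (𝟙 N') (tensorComm L P).hom
  have hγ : ∀ (U : Y.Opens) (a : Γ(N', U)) (s : Γ(L, U)) (p : Γ(P, U)),
      γ.app U (tmul (tmul a s) p) = tmul a (tmul p s) := fun U a s p => by
    show (tensorMap (𝟙 N') (tensorComm L P).hom).app U (α.app U (tmul (tmul a s) p)) = _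
    rw [hα, tensorMap_tmul]
    exact congrArg (tmul a) (Bilin.desc_tmul _ U s p)
  have hγiso : IsIso γ := isIso_of_bijective_nhd γ fun y => by
    obtain ⟨W, hyW, g, hg⟩ := exists_isGen hL y
    refine ⟨W, hyW, fun O hO => ?_⟩
    have hg' := hg.restrict hO
    have hgp : IsGen P O (powSec (resM L hO g) n) := isGen_powSec hg' n
    have hgq : IsGen (CohB1.tensorPow L (n + 1)) O (tmul (powSec (resM L hO g) n) (resM L hO g)) :=
      isGen_powSec hg' (n + 1)
    have b1 := bijective_tmul_gen (M := N') hg' O le_rfl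
    have b2 := bijective_tmul_gen (M := CohB1.tensorMod N' L) hgp O le_rfl
    have b3 := bijective_tmul_gen (M := N') hgq O le_rfl
    simp only [resM_self] at b1 b2 b3
    refine (Function.Bijective.of_comp_iff _ (b2.comp b1)).1 ?_
    convert b3 using 1
    exact funext fun a => hγ O a _ _
  obtain ⟨z₁, hz₁⟩ := (ConcreteCategory.bijective_of_isIso (γ.app (f ⁻¹ᵁ B.1))).2
    (resM (twn f G L (n + 1)) (le_wOp f V hBV) (show Γ(twn f G L (n + 1), wOp f V B.1) from z))
  obtain ⟨a, ha⟩ := hN n hn (twn f G L (n + 1)) γ (mulA f G L hL n)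
    (fun U a q p => (mulA_tmul f hL n U a p q).trans (hγ U a q p).symm) z₁
  refine ⟨r, fun k => (show Γ(twn f G L n, wOp f V B.1) from resM _ (wOp_le f V B.1) (a k)), x, ?_⟩
  rw [hz₁] at ha
  have h2 := congrArg (resM (twn f G L (n + 1)) (wOp_le f V B.1)) ha
  rw [resM_resM, resM_self, map_sum] at h2
  refine Eq.trans h2 (Finset.sum_congr rfl fun k _ => ?_)
  refine Eq.trans ?_ (mulTW_tmul f V hL n B.1 _ _).symm
  rw [← app_resM, resM_tmul, resM_resM, resM_self]

end Groth.Agent.ResProp8
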