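import Groth.Agent.GVan16.Main

/-!
# Top-degree edge maps for direct images with small higher direct images

`f : X ⟶ Y` is continuous, `D q` are closed subsets of `Y` of small dimension. If the groups
`H^q(f⁻¹V, G)` vanish off `D q`, then `H^P(Y, f_*G) = 0` gives `H^P(X, G) = 0`. In the other direction, if
`φ : G ⟶ G'` is a composite of enough maps killing `H^q(f⁻¹V, -)` off `D (q+1)`, then `H^P(X, G) = 0`
makes `H^P(Y, f_*φ)` vanish.
-/

set_option autoImplicit false
set_option backward.isDefEq.respectTransparency false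
set_option backward.isDefEq.respectTransparency.types false
set_option linter.style.haveILetI false

universe u

open CategoryTheory CategoryTheory.Limits CategoryTheory.Abelian Opposite TopologicalSpace
open Groth.Agent.SiteCoh Groth.Agent.GVan16

namespace Groth.Agent.ResProp8

variable {X Y : TopCat.{u}} (f : X ⟶ Y) (Bs : Set (Opens Y))

local notation "F₊" => CohTop.push f

/-- The next step of a sequence of closed sets. -/
abbrev shiftD (D : ℕ → Closeds Y) : ℕ → Closeds Y := fun q => D (q + 1)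

/-- The dimension bound in degree `P`. -/
def DimD (D : ℕ → Closeds Y) (P : ℕ) : Prop :=
  ∀ q, topologicalKrullDim (D q : Set Y) < ((P - q : ℕ) : WithBot ℕ∞)

theorem DimD.shift {D : ℕ → Closeds Y} {P : ℕ} (h : DimD D (P + 1)) : DimD (shiftD D) P := fun q => by
  have := h (q + 1)
  rwa [Nat.add_sub_add_right] at this

/-- Positive degree cohomology vanishes off `D`. -/
def Van (D : ℕ → Closeds Y) (G : CohTop.Ab X) : Prop :=
  ∀ q, ∀ V ∈ Bs, Disjoint (V : Set Y) (D (q + 1)) → Subsingleton (CohTop.HU G (q + 1) ((Opens.map f).obj V))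

/-- A map killing positive degree cohomology off the next member of `D`. -/
def Kill (D : ℕ → Closeds Y) {G G' : CohTop.Ab X} (φ : G ⟶ G') : Prop :=
  ∀ q, ∀ V ∈ Bs, Disjoint (V : Set Y) (D (q + 2)) → ∀ x : CohTop.HU G (q + 1) ((Opens.map f).obj V),
    Ext.comp x (Ext.mk₀ φ) (add_zero (q + 1)) = 0

/-- Composites of `n` killing maps. -/
def Comp (D : ℕ → Closeds Y) : ℕ → (G G' : CohTop.Ab X) → (G ⟶ G') → Prop
  | 0, _, _, _ => True
  | n + 1, G, G', φ => ∃ (L : CohTop.Ab X) (a : G ⟶ L) (b : L ⟶ G'), a ≫ b = φ ∧ Comp D n G L a ∧ Kill f Bs D b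

variable {f Bs}

theorem eq_zero_of_local {Z : TopCat.{u}} (G : CohTop.Ab Z) {V : Opens Z} (s : G.obj.obj (op V))
    (h : ∀ x ∈ V, ∃ (W : Opens Z) (hW : W ≤ V), x ∈ W ∧ G.obj.map (homOfLE hW).op s = 0) : s = 0 :=
  TopCat.Presheaf.section_ext G V s 0 fun x hx => by
    obtain ⟨W, hW, hxW, h0⟩ := h x hx
    rw [map_zero]
    exact ((TopCat.Presheaf.germ_res_apply G.obj (homOfLE hW) x hxW s).symm.trans
      (congrArg _ h0)).trans (map_zero _)

/-- Sections lift near each point along an epimorphism, on members of a basis. -/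
theorem exists_lift_basis {Z : TopCat.{u}} {B : Set (Opens Z)} (hB : Opens.IsBasis B) {F G : CohTop.Ab Z}
    (g : F ⟶ G) [Epi g] {V : Opens Z} (s : G.obj.obj (op V)) {x : Z} (hx : x ∈ V) :
    ∃ (W : Opens Z) (hW : W ≤ V), x ∈ W ∧ W ∈ B ∧ ∃ t, g.hom.app (op W) t = G.obj.map (homOfLE hW).op s := by
  obtain ⟨S, hS, hl⟩ := SiteCoh.exists_local_lift g s
  obtain ⟨W₁, i, hi, hxW₁⟩ := hS x hx
  obtain ⟨W, hW, hxW, hle⟩ := Opens.isBasis_iff_nbhd.mp hB hxW₁
  obtain ⟨t, ht⟩ := hl (homOfLE hle ≫ i) (S.downward_closed hi _)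
  exact ⟨W, hle.trans i.le, hxW, hW, t, ht⟩

/-- The image of `f_*` of the standard embedding of `G`. -/
noncomputable abbrev kG (f : X ⟶ Y) (G : CohTop.Ab X) : CohTop.Ab Y :=
  cokernel ((CohTop.push f).map (injEmbed G).f)

/-- The inclusion of the image. -/
noncomputable abbrev jG (f : X ⟶ Y) (G : CohTop.Ab X) : kG f G ⟶ (CohTop.push f).obj (injEmbed G).X₃ :=
  cokernel.desc _ ((CohTop.push f).map (injEmbed G).g) (by rw [← Functor.map_comp, (injEmbed G).zero, Functor.map_zero])

/-- The first higher direct image. -/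
noncomputable abbrev cG (f : X ⟶ Y) (G : CohTop.Ab X) : CohTop.Ab Y := cokernel (jG f G)

theorem mono_push_ι (G : CohTop.Ab X) : Mono ((CohTop.push f).map (injEmbed G).f) :=
  haveI : PreservesFiniteLimits (CohTop.push f) :=
    have : (CohTop.push f).IsRightAdjoint :=
      (TopCat.Sheaf.pullbackPushforwardAdjunction AddCommGrpCat.{u} f).isRightAdjoint
    inferInstance
  haveI := (injEmbed_shortExact G).mono_f
  (CohTop.push f).map_mono _

theorem mono_jG (G : CohTop.Ab X) : Mono (jG f G) := by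
  haveI : PreservesFiniteLimits (CohTop.push f) :=
    have : (CohTop.push f).IsRightAdjoint :=
      (TopCat.Sheaf.pullbackPushforwardAdjunction AddCommGrpCat.{u} f).isRightAdjoint
    inferInstance
  haveI := (injEmbed_shortExact G).mono_f
  exact ((injEmbed_shortExact G).exact.map_of_mono_of_preservesKernel (CohTop.push f) inferInstance
    inferInstance).mono_cokernelDesc

theorem shortExact_kG (G : CohTop.Ab X) :
    (ShortComplex.mk ((CohTop.push f).map (injEmbed G).f) (cokernel.π _) (cokernel.condition _)).ShortExact :=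
  haveI := mono_push_ι (f := f) G
  cokernel_shortExact _

theorem shortExact_cG (G : CohTop.Ab X) :
    (ShortComplex.mk (jG f G) (cokernel.π _) (cokernel.condition _)).ShortExact :=
  haveI := mono_jG (f := f) G
  cokernel_shortExact _

theorem subsingleton_H_push_injective (f : X ⟶ Y) (G : CohTop.Ab X) (p : ℕ) :
    Subsingleton (CohTop.H ((CohTop.push f).obj (injEmbed G).X₂) (p + 1)) := by
  haveI : Injective (injEmbed G).X₂ := inferInstanceAs (Injective (Injective.under G))
  haveI := isFlasque_of_injective (injEmbed G).X₂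
  haveI : TopCat.Sheaf.IsFlasque ((CohTop.push f).obj (injEmbed G).X₂) :=
    TopCat.Sheaf.IsFlasque.pushforward_isFlasque (injEmbed G).X₂ f
  exact SiteCoh.subsingleton_H_of_isFlasque _ p

theorem subsingleton_HU_injective (G : CohTop.Ab X) (p : ℕ) (U : Opens X) :
    Subsingleton (CohTop.HU (injEmbed G).X₂ (p + 1) U) := by
  haveI : Injective (injEmbed G).X₂ := inferInstanceAs (Injective (Injective.under G))
  haveI := isFlasque_of_injective (injEmbed G).X₂
  exact subsingleton_HU_of_isFlasque _ U p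

theorem subsingleton_H_injective (G : CohTop.Ab X) (p : ℕ) :
    Subsingleton (CohTop.H (injEmbed G).X₂ (p + 1)) :=
  subsingleton_H_of_HU isTerminalTop (subsingleton_HU_injective G p ⊤)

/-- Global sections lift when `H^1` vanishes. -/
theorem surjective_top {Z : TopCat.{u}} {S : ShortComplex (CohTop.Ab Z)} (hS : S.ShortExact)
    (h : Subsingleton (CohTop.H S.X₁ 1)) : Function.Surjective (S.g.hom.app (op (⊤ : Opens Z))) :=
  surjective_sections_of_subsingleton hS ⊤ ((hUEquivH S.X₁ 1 isTerminalTop).toEquiv.subsingleton)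

theorem subsingleton_H_of_supp {Z : TopCat.{u}} [NoetherianSpace Z] {G : CohTop.Ab Z} {T : Closeds Z}
    (hG : SuppIn G (T : Set Z)) {p : ℕ} (hd : topologicalKrullDim (T : Set Z) < (p : WithBot ℕ∞)) :
    Subsingleton (CohTop.H G p) :=
  H_of_suppIn hG T.2 fun F => GVan16.subsingleton_H p (TopCat.of (T : Set Z)) hd F p le_rfl

theorem injective_app_of_mono {Z : TopCat.{u}} {F G : CohTop.Ab Z} (g : F ⟶ G) [Mono g] (V : Opens Z) :
    Function.Injective (g.hom.app (op V)) := fun a b h => by
  refine (homEquiv V F).symm.injective ((cancel_mono g).1 ((homEquiv V G).injective ?_))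
  rw [homEquiv_postcomp, homEquiv_postcomp, AddEquiv.apply_symm_apply, AddEquiv.apply_symm_apply, h]

theorem exists_preimage_top {Z : TopCat.{u}} {S : ShortComplex (CohTop.Ab Z)} (hS : S.ShortExact)
    (s : S.X₂.obj.obj (op (⊤ : Opens Z))) (h : S.g.hom.app (op ⊤) s = 0) : ∃ k, S.f.hom.app (op ⊤) k = s := by
  haveI := hS.mono_f
  let a := (homEquiv (⊤ : Opens Z) S.X₂).symm s
  have ha : a ≫ S.g = 0 := (homEquiv _ _).injective (by
    rw [homEquiv_postcomp, map_zero, AddEquiv.apply_symm_apply, h])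
  obtain ⟨b, hb⟩ := KernelFork.IsLimit.lift' hS.fIsKernel a ha
  exact ⟨homEquiv _ _ b, by rw [← homEquiv_postcomp]; exact (congrArg _ hb).trans (AddEquiv.apply_symm_apply _ _)⟩

/-- The connecting map vanishes in degree zero when global sections lift. -/
theorem extClass_comp_eq_zero {Z : TopCat.{u}} {S : ShortComplex (CohTop.Ab Z)} (hS : S.ShortExact)
    (h : Function.Surjective (S.g.hom.app (op (⊤ : Opens Z)))) (y : CohTop.H S.X₃ 0) :
    Ext.comp y hS.extClass (rfl : 0 + 1 = 0 + 1) = 0 := by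
  obtain ⟨a, rfl⟩ := (Ext.mk₀_bijective _ _).2 y
  let e := freeSheafTerminalIso (Opens.grothendieckTopology Z) (isTerminalTop (α := Opens Z))
  obtain ⟨b, hb⟩ := (surjective_sections_iff S.g ⊤).1 h (e.hom ≫ a)
  have : a = (e.inv ≫ b) ≫ S.g := by rw [Category.assoc, hb, Iso.inv_hom_id_assoc]
  rw [this, ← Ext.mk₀_comp_mk₀, Ext.comp_assoc (a₂₃ := 1) _ _ _ (add_zero 0) (zero_add 1) (by omega),
    hS.comp_extClass, Ext.comp_zero]

theorem suppIn_cG (hB : Opens.IsBasis Bs) {D : ℕ → Closeds Y} {G : CohTop.Ab X} (hG : Van f Bs D G) :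
    SuppIn (cG f G) (D 1 : Set Y) := fun V hV s => eq_zero_of_local _ s fun x hx => by
  obtain ⟨W, hW, hxW, hWB, t, ht⟩ := exists_lift_basis hB (cokernel.π (jG f G)) s hx
  refine ⟨W, hW, hxW, ?_⟩
  obtain ⟨i, hi⟩ := surjective_sections_of_subsingleton (injEmbed_shortExact G) ((Opens.map f).obj W)
    (hG 0 W hWB (hV.mono_left hW)) t
  let k := (cokernel.π ((CohTop.push f).map (injEmbed G).f)).hom.app (op W) i
  have hk : (jG f G).hom.app (op W) k = t := by
    refine Eq.trans ?_ hi
    exact ConcreteCategory.congr_hom (NatTrans.congr_app (congrArg InducedCategory.Hom.hom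
      (cokernel.π_desc ((CohTop.push f).map (injEmbed G).f) ((CohTop.push f).map (injEmbed G).g) _)) (op W)) i
  rw [← ht, ← hk]
  exact ConcreteCategory.congr_hom (NatTrans.congr_app (congrArg InducedCategory.Hom.hom
    (cokernel.condition (jG f G))) (op W)) k

/-- An extension of `φ` to the standard embeddings. -/
theorem exists_emMap {G G' : CohTop.Ab X} (φ : G ⟶ G') : ∃ τ : injEmbed G ⟶ injEmbed G', τ.τ₁ = φ := by
  haveI : Injective (injEmbed G').X₂ := inferInstanceAs (Injective (Injective.under G'))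
  haveI := (injEmbed_shortExact G).mono_f
  let e : Injective.under G ⟶ Injective.under G' := Injective.factorThru (φ ≫ Injective.ι G') (Injective.ι G)
  have he : Injective.ι G ≫ e = φ ≫ Injective.ι G' := Injective.comp_factorThru _ _
  exact ⟨ShortComplex.homMk φ e (cokernel.map _ _ φ e he) he.symm (cokernel.π_desc _ _ _).symm, rfl⟩

theorem Kill.shift {D : ℕ → Closeds Y} {G G' : CohTop.Ab X} {φ : G ⟶ G'} (h : Kill f Bs D φ)
    (τ : injEmbed G ⟶ injEmbed G') (hτ : τ.τ₁ = φ) : Kill f Bs (shiftD D) τ.τ₃ := by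
  intro q V hV hd x
  have hS := injEmbed_shortExact G
  have hS' := injEmbed_shortExact G'
  have h0 : (Ext.comp x (Ext.mk₀ τ.τ₃) (add_zero (q + 1))).comp hS'.extClass (rfl : q + 1 + 1 = q + 1 + 1) = 0 := by
    rw [Ext.comp_assoc (a₂₃ := 1) x _ _ _ (zero_add 1) (by omega), ← ShortComplex.ShortExact.extClass_naturality hS hS' τ,
      ← Ext.comp_assoc (a₁₂ := q + 1 + 1) x _ _ rfl _ (by omega), hτ]
    exact h (q + 1) V hV hd (x.comp hS.extClass rfl)
  obtain ⟨y, hy⟩ := Ext.covariant_sequence_exact₃ _ hS' _ rfl h0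
  rw [← hy, (subsingleton_HU_injective G' q _).elim y 0, Ext.zero_comp]

theorem Comp.shift : ∀ {n : ℕ} {D : ℕ → Closeds Y} {G G' : CohTop.Ab X} {φ : G ⟶ G'}, Comp f Bs D n G G' φ →
    ∃ τ : injEmbed G ⟶ injEmbed G', τ.τ₁ = φ ∧ Comp f Bs (shiftD D) n _ _ τ.τ₃ := by
  intro n
  induction n with
  | zero =>
    intro D G G' φ _
    obtain ⟨τ, hτ⟩ := exists_emMap φ
    exact ⟨τ, hτ, trivial⟩
  | succ n ih =>
    rintro D G G' φ ⟨L, a, b, rfl, ha, hb⟩
    obtain ⟨τa, hτa, hca⟩ := ih ha
    obtain ⟨τb, hτb⟩ := exists_emMap b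
    exact ⟨τa ≫ τb, by rw [ShortComplex.comp_τ₁, hτa, hτb], _, τa.τ₃, τb.τ₃, rfl, hca, hb.shift τb hτb⟩

variable [NoetherianSpace Y] (hB : Opens.IsBasis Bs)

include hB

/-- Surjectivity of the edge map in the top degree, as a vanishing statement. -/
theorem subsingleton_H_of_push : ∀ (P : ℕ) (D : ℕ → Closeds Y) (G : CohTop.Ab X), Van f Bs D G →
    DimD D (P + 1) → Subsingleton (CohTop.H ((CohTop.push f).obj G) (P + 1)) →
    Subsingleton (CohTop.H G (P + 1)) := by
  intro P
  induction P with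
  | zero =>
    intro D G hG hD h
    have hS := injEmbed_shortExact G
    refine subsingleton_of_forall_eq 0 fun x => ?_
    obtain ⟨y, rfl⟩ := Ext.covariant_sequence_exact₁ _ hS x ((subsingleton_H_injective G 0).elim _ _) rfl
    have hsur : Function.Surjective ((injEmbed G).g.hom.app (op (⊤ : Opens X))) := by
      intro s
      have hC : ∀ t : (cG f G).obj.obj (op (⊤ : Opens Y)), t = 0 := fun t => by
        have hD1 : ((D 1 : Closeds Y) : Set Y) = ∅ := by
          by_contra hne
          obtain ⟨z, hz⟩ := Set.nonempty_iff_ne_empty.2 hne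
          haveI : Nonempty (IrreducibleCloseds (D 1 : Set Y)) :=
            ⟨⟨closure {⟨z, hz⟩}, isIrreducible_singleton.closure, isClosed_closure⟩⟩
          exact not_le.2 (hD 1) (by
            show ((0 : ℕ) : WithBot ℕ∞) ≤ _
            exact_mod_cast Order.krullDim_nonneg)
        exact suppIn_cG hB hG ⊤ (by rw [hD1]; exact Set.disjoint_empty _) t
      let s' : ((CohTop.push f).obj (injEmbed G).X₃).obj.obj (op (⊤ : Opens Y)) := s
      have h1 := (shortExact_cG (f := f) G).exact
      haveI := mono_jG (f := f) G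
      obtain ⟨k, hk⟩ : ∃ k, (jG f G).hom.app (op (⊤ : Opens Y)) k = s' :=
        exists_preimage_top (shortExact_cG (f := f) G) s' (hC _)
      obtain ⟨i, hi⟩ := surjective_top (shortExact_kG (f := f) G) h k
      refine ⟨i, ?_⟩
      refine Eq.trans ?_ hk
      rw [← hi]
      exact (ConcreteCategory.congr_hom (NatTrans.congr_app (congrArg InducedCategory.Hom.hom
        (cokernel.π_desc ((CohTop.push f).map (injEmbed G).f) ((CohTop.push f).map (injEmbed G).g) _)) (op ⊤)) i).symm
    exact extClass_comp_eq_zero hS hsur y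
  | succ P ih =>
    intro D G hG hD h
    have hK : Subsingleton (CohTop.H (kG f G) (P + 1)) :=
      H_X₃ (shortExact_kG G) (P + 1) (subsingleton_H_push_injective f G P) h
    have hC : Subsingleton (CohTop.H (cG f G) (P + 1)) :=
      subsingleton_H_of_supp (suppIn_cG hB hG) (by have := hD 1; simpa using this)
    have hS3 : Subsingleton (CohTop.H (injEmbed G).X₃ (P + 1)) := by
      refine ih (shiftD D) _ (fun q V hV hd => ?_) hD.shift (H_X₂ (shortExact_cG G) (P + 1) hK hC)
      refine subsingleton_of_forall_eq 0 fun x => ?_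
      obtain ⟨y, hy⟩ := Ext.covariant_sequence_exact₃ _ (injEmbed_shortExact G) x rfl
        ((hG (q + 1) V hV hd).elim _ _)
      rw [← hy, (subsingleton_HU_injective G q _).elim y 0, Ext.zero_comp]
    exact H_X₁ (injEmbed_shortExact G) (P + 1) hS3 (subsingleton_H_injective G (P + 1))

omit hB [NoetherianSpace Y] in
/-- The map induced on the images. -/
theorem exists_kMap {G G' : CohTop.Ab X} (τ : injEmbed G ⟶ injEmbed G') :
    ∃ (k : kG f G ⟶ kG f G') (c : cG f G ⟶ cG f G'),
      cokernel.π _ ≫ k = (CohTop.push f).map τ.τ₂ ≫ cokernel.π _ ∧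
      jG f G ≫ (CohTop.push f).map τ.τ₃ = k ≫ jG f G' ∧
      cokernel.π (jG f G) ≫ c = (CohTop.push f).map τ.τ₃ ≫ cokernel.π (jG f G') := by
  let k := cokernel.map _ ((CohTop.push f).map (injEmbed G').f) ((CohTop.push f).map τ.τ₁) ((CohTop.push f).map τ.τ₂)
    (show (CohTop.push f).map (injEmbed G).f ≫ (CohTop.push f).map τ.τ₂ = _ by
      rw [← Functor.map_comp, ← Functor.map_comp, τ.comm₁₂])
  have hk : cokernel.π ((CohTop.push f).map (injEmbed G).f) ≫ k = (CohTop.push f).map τ.τ₂ ≫ cokernel.π _ :=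
    cokernel.π_desc _ _ _
  have hj : jG f G ≫ (CohTop.push f).map τ.τ₃ = k ≫ jG f G' := by
    rw [← cancel_epi (cokernel.π ((CohTop.push f).map (injEmbed G).f)), ← Category.assoc, ← Category.assoc,
      cokernel.π_desc, hk, Category.assoc, cokernel.π_desc, ← Functor.map_comp, ← Functor.map_comp, τ.comm₂₃]
  exact ⟨k, cokernel.map _ _ k _ hj, hk, hj, cokernel.π_desc _ _ _⟩

omit [NoetherianSpace Y] in
/-- The image of the map of first direct images of a killing map. -/
theorem suppIn_image_cMap {D : ℕ → Closeds Y} {G G' : CohTop.Ab X} (τ : injEmbed G ⟶ injEmbed G')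
    (h : Kill f Bs D τ.τ₁) (c : cG f G ⟶ cG f G')
    (hc : cokernel.π (jG f G) ≫ c = (CohTop.push f).map τ.τ₃ ≫ cokernel.π (jG f G')) :
    SuppIn (Abelian.image c) (D 2 : Set Y) := fun V hV s => eq_zero_of_local _ s fun x hx => by
  obtain ⟨W, hW, hxW, hWB, t, ht⟩ := exists_lift_basis hB (cokernel.π (jG f G) ≫ Abelian.factorThruImage c) s hx
  refine ⟨W, hW, hxW, ?_⟩
  let a := (homEquiv ((Opens.map f).obj W) (injEmbed G).X₃).symm t
  have hS := injEmbed_shortExact G
  have hS' := injEmbed_shortExact G'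
  have h0 : (Ext.mk₀ (a ≫ τ.τ₃)).comp hS'.extClass (zero_add 1) = 0 := by
    rw [← Ext.mk₀_comp_mk₀, Ext.comp_assoc (a₂₃ := 1) _ _ _ (add_zero 0) (zero_add 1) (by omega),
      ← ShortComplex.ShortExact.extClass_naturality hS hS' τ,
      ← Ext.comp_assoc (a₁₂ := 1) _ _ _ (zero_add 1) _ (by omega)]
    exact h 0 W hWB (hV.mono_left hW) _
  obtain ⟨y, hy⟩ := Ext.covariant_sequence_exact₃ _ hS' _ (zero_add 1) h0
  obtain ⟨b, rfl⟩ := (Ext.mk₀_bijective _ _).2 y
  rw [Ext.mk₀_comp_mk₀] at hy
  have hb : (injEmbed G').g.hom.app (op ((Opens.map f).obj W)) (homEquiv _ _ b) =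
      τ.τ₃.hom.app (op ((Opens.map f).obj W)) t := by
    rw [← homEquiv_postcomp, (Ext.mk₀_bijective _ _).1 hy, homEquiv_postcomp, AddEquiv.apply_symm_apply]
  let i := homEquiv ((Opens.map f).obj W) (injEmbed G').X₂ b
  let k := (cokernel.π ((CohTop.push f).map (injEmbed G').f)).hom.app (op W) i
  have hk : (jG f G').hom.app (op W) k = ((CohTop.push f).map τ.τ₃).hom.app (op W) t :=
    (ConcreteCategory.congr_hom (NatTrans.congr_app (congrArg InducedCategory.Hom.hom
      (cokernel.π_desc ((CohTop.push f).map (injEmbed G').f) ((CohTop.push f).map (injEmbed G').g) _)) (op W))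
        i).trans hb
  haveI : Mono (Abelian.image.ι c) := inferInstance
  refine injective_app_of_mono (Abelian.image.ι c) W ?_
  rw [map_zero, ← ht]
  have e1 := ConcreteCategory.congr_hom (NatTrans.congr_app (congrArg InducedCategory.Hom.hom
    (show (cokernel.π (jG f G) ≫ Abelian.factorThruImage c) ≫ Abelian.image.ι c =
      (CohTop.push f).map τ.τ₃ ≫ cokernel.π (jG f G') by rw [Category.assoc, Abelian.image.fac, hc])) (op W)) t
  refine e1.trans ?_
  show (cokernel.π (jG f G')).hom.app (op W) (((CohTop.push f).map τ.τ₃).hom.app (op W) t) = 0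
  rw [← hk]
  exact ConcreteCategory.congr_hom (NatTrans.congr_app (congrArg InducedCategory.Hom.hom
    (cokernel.condition (jG f G'))) (op W)) k

/-- Injectivity of the edge map in the top degree, along a composite of killing maps. -/
theorem comp_push_eq_zero : ∀ (P : ℕ) (D : ℕ → Closeds Y) (G G' : CohTop.Ab X) (φ : G ⟶ G'),
    Comp f Bs D P G G' φ → DimD D (P + 1) → Subsingleton (CohTop.H G (P + 1)) →
    ∀ x : CohTop.H ((CohTop.push f).obj G) (P + 1), Ext.comp x (Ext.mk₀ ((CohTop.push f).map φ)) (add_zero (P + 1)) = 0 := by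
  intro P
  induction P with
  | zero =>
    intro D G G' φ _ _ h x
    obtain ⟨y, rfl⟩ := Ext.covariant_sequence_exact₁ _ (shortExact_kG (f := f) G) x
      ((subsingleton_H_push_injective f G 0).elim _ _) rfl
    have hsur : Function.Surjective ((cokernel.π ((CohTop.push f).map (injEmbed G).f)).hom.app (op (⊤ : Opens Y))) := by
      intro k
      obtain ⟨i, hi⟩ := surjective_top (injEmbed_shortExact G) h ((jG f G).hom.app (op (⊤ : Opens Y)) k)
      haveI := mono_jG (f := f) G
      refine ⟨i, injective_app_of_mono (jG f G) ⊤ ?_⟩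
      exact (ConcreteCategory.congr_hom (NatTrans.congr_app (congrArg InducedCategory.Hom.hom
        (cokernel.π_desc ((CohTop.push f).map (injEmbed G).f) ((CohTop.push f).map (injEmbed G).g) _)) (op ⊤)) i).trans hi
    rw [extClass_comp_eq_zero (shortExact_kG (f := f) G) hsur y, Ext.zero_comp]
  | succ P ih =>
    rintro D G G' φ ⟨L, a, b, rfl, ha, hb⟩ hD h x
    obtain ⟨τa, hτa, hca⟩ := ha.shift
    obtain ⟨τb, hτb⟩ := exists_emMap b
    obtain ⟨ka, -, hka, hja, -⟩ := exists_kMap (f := f) τa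
    obtain ⟨kb, cb, hkb, hjb, hcb⟩ := exists_kMap (f := f) τb
    obtain ⟨y, rfl⟩ := Ext.covariant_sequence_exact₁ _ (shortExact_kG (f := f) G) x
      ((subsingleton_H_push_injective f G (P + 1)).elim _ _) rfl
    have hS3 : Subsingleton (CohTop.H (injEmbed G).X₃ (P + 1)) :=
      H_X₃ (injEmbed_shortExact G) (P + 1) (subsingleton_H_injective G P) h
    have hz : (y.comp (Ext.mk₀ ka) (add_zero (P + 1))).comp (Ext.mk₀ (jG f L)) (add_zero (P + 1)) = 0 := by
      rw [Ext.comp_assoc_of_third_deg_zero, Ext.mk₀_comp_mk₀, ← hja, ← Ext.mk₀_comp_mk₀,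
        ← Ext.comp_assoc_of_third_deg_zero]
      exact ih (shiftD D) _ _ τa.τ₃ hca hD.shift hS3 _
    obtain ⟨w, hw⟩ := Ext.covariant_sequence_exact₁ _ (shortExact_cG (f := f) L) _ hz rfl
    have hI : Subsingleton (CohTop.H (Abelian.image cb) P) :=
      subsingleton_H_of_supp (suppIn_image_cMap hB τb (hτb ▸ hb) cb hcb) (by have := hD 2; simpa using this)
    have hu : Ext.comp w (Ext.mk₀ cb) (add_zero P) = 0 := by
      rw [← Abelian.image.fac cb, ← Ext.mk₀_comp_mk₀, ← Ext.comp_assoc_of_third_deg_zero,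
        hI.elim (Ext.comp w (Ext.mk₀ (Abelian.factorThruImage cb)) (add_zero P)) 0, Ext.zero_comp]
    have hy : y.comp (Ext.mk₀ (ka ≫ kb)) (add_zero (P + 1)) = 0 := by
      rw [← Ext.mk₀_comp_mk₀, ← Ext.comp_assoc_of_third_deg_zero, ← hw]
      let σ : ShortComplex.mk (jG f L) (cokernel.π _) (cokernel.condition _) ⟶
          ShortComplex.mk (jG f G') (cokernel.π _) (cokernel.condition _) :=
        ShortComplex.homMk kb ((CohTop.push f).map τb.τ₃) cb hjb.symm hcb.symm
      refine (Ext.comp_assoc (a₂₃ := 1) w _ _ rfl (add_zero 1) (by omega)).trans ?_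
      refine (congrArg (fun t => Ext.comp w t (rfl : P + 1 = P + 1))
        (ShortComplex.ShortExact.extClass_naturality (shortExact_cG L) (shortExact_cG G') σ)).trans ?_
      rw [← Ext.comp_assoc (a₁₂ := P) w _ _ (add_zero P) (zero_add 1) (by omega)]
      show (Ext.comp w (Ext.mk₀ cb) (add_zero P)).comp _ _ = 0
      rw [hu, Ext.zero_comp]
    let ρ : ShortComplex.mk ((CohTop.push f).map (injEmbed G).f) (cokernel.π _) (cokernel.condition _) ⟶
        ShortComplex.mk ((CohTop.push f).map (injEmbed G').f) (cokernel.π _) (cokernel.condition _) :=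
      ShortComplex.homMk ((CohTop.push f).map (a ≫ b)) ((CohTop.push f).map (τa.τ₂ ≫ τb.τ₂)) (ka ≫ kb)
        (by rw [← Functor.map_comp, ← Functor.map_comp, ← hτa, ← hτb, Category.assoc, τb.comm₁₂, ← Category.assoc,
              τa.comm₁₂, Category.assoc])
        (by rw [Functor.map_comp, Category.assoc, ← hkb, ← Category.assoc, ← hka, Category.assoc])
    refine (Ext.comp_assoc (a₂₃ := 1) y _ _ rfl (add_zero 1) (by omega)).trans ?_
    refine (congrArg (fun t => Ext.comp y t (rfl : P + 1 + 1 = P + 1 + 1))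
      (ShortComplex.ShortExact.extClass_naturality (shortExact_kG G) (shortExact_kG G') ρ)).trans ?_
    rw [← Ext.comp_assoc (a₁₂ := P + 1) y _ _ (add_zero (P + 1)) (zero_add 1) (by omega)]
    show (Ext.comp y (Ext.mk₀ (ka ≫ kb)) (add_zero (P + 1))).comp _ _ = 0
    rw [hy, Ext.zero_comp]

end Groth.Agent.ResProp8
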