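import Groth.Agent.ResProp8.KillStep
import Groth.Agent.ResProp8.IdealPart
import Groth.Agent.ResProp8.Leray
import Groth.Agent.Coherent.RpushCoh

/-!
# Killing maps for a twisted pullback family
-/

set_option autoImplicit false
set_option backward.isDefEq.respectTransparency false
set_option backward.isDefEq.respectTransparency.types false
set_option linter.style.haveILetI false

universe u

open CategoryTheory CategoryTheory.Limits CategoryTheory.Abelian AlgebraicGeometry Opposite TopologicalSpace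
open Groth.Agent.Coherent Groth.Agent.PicLib Groth.Agent.AmpleLib

namespace Groth.Agent.ResProp8

attribute [local instance] Groth.Agent.Coherent.hasFiniteBiproducts

variable {X Y : Scheme.{u}} (f : Y ⟶ X)

theorem fiber_dim_restrict_le (B : X.Opens) (p : ℕ) (hd : ∀ x ∈ B, topologicalKrullDim ↥(f.fiber x) ≤ p)
    (y : B.toScheme) : topologicalKrullDim ↥((f ∣_ B).fiber y) ≤ p := by
  let e : ((f ∣_ B) ⁻¹' {y} : Set (f ⁻¹ᵁ B).toScheme) → (f ⁻¹' {y.1} : Set Y) := fun z =>
    ⟨(f ⁻¹ᵁ B).ι z.1, (morphismRestrict_base_coe f B z.1).symm.trans (congrArg Subtype.val z.2)⟩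
  have he : Topology.IsInducing e :=
    Topology.IsInducing.of_comp (by fun_prop) continuous_subtype_val
      ((f ⁻¹ᵁ B).ι.isOpenEmbedding.isInducing.comp Topology.IsInducing.subtypeVal)
  refine le_trans ?_ (hd y.1 y.2)
  refine ((f ∣_ B).fiberHomeo y).isInducing.topologicalKrullDim_le.trans (he.topologicalKrullDim_le.trans ?_)
  exact (f.fiberHomeo y.1).symm.isInducing.topologicalKrullDim_le

/-- Cohomology over the preimage of an affine open vanishes above the fibre dimension. -/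
theorem subsingleton_HU_of_fibre_dim [IsProper f] [IsLocallyNoetherian X] (M : Y.Modules) [Coh.IsQCoh M]
    {B : X.Opens} (hB : IsAffineOpen B) (p : ℕ) (hd : ∀ x ∈ B, topologicalKrullDim ↥(f.fiber x) ≤ p) :
    Subsingleton (Sheaf.H' (Coh.toAb M) (p + 1) (f ⁻¹ᵁ B)) := by
  haveI : IsAffine B.toScheme := hB
  haveI : IsProper (f ∣_ B) := inferInstance
  haveI := H8Lim.subsingleton_HH_of_fibre_dim (f ∣_ B) p (fiber_dim_restrict_le f B p hd)
    (M.restrict (f ⁻¹ᵁ B).ι) (p + 1) (Nat.lt_succ_self p)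
  exact (HHonEquiv M (f ⁻¹ᵁ B) (p + 1)).symm.toEquiv.subsingleton

theorem rTens_kap (I : X.IdealSheafData) (A : Y.Modules) {B : X.Opens} (hB : IsAffineOpen B)
    (h : Γ(ClSub.idealMod I, B)) :
    letI : (f ⁻¹ᵁ B).toScheme.Over (Spec (CommRingCat.of Γ(X, B))) := ⟨toSpecSections f hB⟩
    rTens A (W := f ⁻¹ᵁ B) (pullSec f h) ≫ (Scheme.Modules.restrictFunctor (f ⁻¹ᵁ B).ι).map (kap f I A) =
      Formal.smulMod Γ(X, B) (A.restrict (f ⁻¹ᵁ B).ι) (show Γ(X, B) from (ClSub.idealModι I).app B h) := by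
  letI : (f ⁻¹ᵁ B).toScheme.Over (Spec (CommRingCat.of Γ(X, B))) := ⟨toSpecSections f hB⟩
  let W := f ⁻¹ᵁ B
  let r : Γ(X, B) := (ClSub.idealModι I).app B h
  refine Scheme.Modules.hom_ext _ _ fun O => ?_
  ext a
  show (kap f I A).app (W.ι ''ᵁ O) (tmul (show Γ(A, W.ι ''ᵁ O) from a) (resM _ (W.ι_image_le O) (pullSec f h))) =
    (W.toScheme.presheaf.map (homOfLE (le_top (a := O))).op (Coh.toGlobal (toSpecSections f hB) r) :
      Γ(W.toScheme, O)) • a
  rw [kap_tmul, app_resM]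
  have e1 : (show Γ(Y, W.ι ''ᵁ O) from resM (Coh.structureModule Y) (W.ι_image_le O) ((twj f I).app W (pullSec f h))) =
      Y.presheaf.map (homOfLE (W.ι_image_le O)).op (f.app B r) :=
    congrArg (fun t => Y.presheaf.map (homOfLE (W.ι_image_le O)).op t) (twj_pullSec f I B h)
  have e2 : (W.toScheme.presheaf.map (homOfLE (le_top (a := O))).op (Coh.toGlobal (toSpecSections f hB) r) :
      Γ(W.toScheme, O)) = (show Γ(W.toScheme, O) from Y.presheaf.map (homOfLE (W.ι_image_le O)).op (f.app B r)) := by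
    have ha : Coh.toGlobal (toSpecSections f hB) r = (f ∣_ B).appTop (B.topIso.inv r) := by
      show (toSpecSections f hB).appTop ((Scheme.ΓSpecIso Γ(X, B)).inv r) = _
      rw [Scheme.Hom.comp_appTop, ConcreteCategory.comp_apply, IsAffineOpen.isoSpec_hom_appTop,
        ConcreteCategory.comp_apply, Iso.inv_hom_id_apply]
    rw [ha, Scheme.Hom.appTop, morphismRestrict_app']
    simp only [Scheme.Opens.topIso_inv, Scheme.Opens.toScheme_presheaf_map, ← ConcreteCategory.comp_apply,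
      Scheme.Hom.app_eq_appLE, Scheme.Hom.appLE_map, Scheme.Hom.map_appLE]
    refine Eq.trans ?_ (ConcreteCategory.congr_hom (f.appLE_map (le_rfl : f ⁻¹ᵁ B ≤ f ⁻¹ᵁ B) (homOfLE (W.ι_image_le O)).op) r).symm
    exact ConcreteCategory.congr_hom (f.appLE_map _ _) r
  rw [e1]
  refine Eq.trans ?_ (congrArg (fun t : Γ(W.toScheme, O) => t • a) e2.symm)
  exact (Existence.restrict_smul A O (Y.presheaf.map (homOfLE (W.ι_image_le O)).op (f.app B r)) a).symm

/-- The spanning property of pulled-back generators. -/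
theorem pullSec_span (M : X.Modules) [Coh.IsQCoh M] {B : X.Opens} (hB : IsAffineOpen B) {κ : Type} [Fintype κ]
    (x : κ → Γ(M, B)) (hx : Submodule.span Γ(X, B) (Set.range x) = ⊤)
    (U : Y.Opens) (hU : U ≤ f ⁻¹ᵁ B) (q : Γ((Scheme.Modules.pullback f).obj M, U)) (y : Y) (hy : y ∈ U) :
    ∃ (U' : Y.Opens) (h' : U' ≤ U), y ∈ U' ∧ ∃ r : κ → Γ(Y, U'),
      resM _ h' q = ∑ k, r k • resM _ (h'.trans hU) (pullSec f (x k)) := by
  obtain ⟨U', hU'a, hy', hU'⟩ := exists_isAffine_nhd hy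
  refine ⟨U', hU', hy', ?_⟩
  have hspan := H8Lim.span_pullSec_eq_top f hB hU'a (hU'.trans hU) M (Set.range x) hx
  rw [← Set.range_comp, eq_top_iff] at hspan
  obtain ⟨c, hc⟩ := (Submodule.mem_span_range_iff_exists_fun _).1
    (hspan (Submodule.mem_top (x := resM _ hU' q)))
  exact ⟨c, hc.symm⟩

/-- A scalar killing `R^p f_* A` kills `H^p(f⁻¹B, A)`. -/
theorem hMap_smulMod_eq_zero [QuasiCompact f] [QuasiSeparated f] (A : Y.Modules) [Coh.IsQCoh A]
    [HasInjectiveResolutions Y.Modules] {B : X.Opens} (hB : IsAffineOpen B) (p : ℕ) (r : Γ(X, B))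
    (hr : ∀ m : Γ((Coh.Rpush f p).obj A, B), r • m = 0) :
    letI : (f ⁻¹ᵁ B).toScheme.Over (Spec (CommRingCat.of Γ(X, B))) := ⟨toSpecSections f hB⟩
    ∀ x, hMap (Formal.smulMod Γ(X, B) (A.restrict (f ⁻¹ᵁ B).ι) r) p x = 0 := by
  letI : (f ⁻¹ᵁ B).toScheme.Over (Spec (CommRingCat.of Γ(X, B))) := ⟨toSpecSections f hB⟩
  obtain ⟨ψ⟩ := exists_rpush_sections_equiv f hB A p
  intro x
  show r • x = 0
  exact ψ.injective (by rw [map_smul, hr, map_zero])

/-- The killing property of `kap ⊗ f^*E` over an affine open. -/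
theorem postHM_kap_eq_zero [IsProper f] [IsLocallyNoetherian X] [HasInjectiveResolutions Y.Modules] {I : X.IdealSheafData}
    (hI : Coh.IsCoh (ClSub.idealMod I)) {A : Y.Modules} (hA : Coh.IsQCoh A) {E : X.Modules} (hE : Coh.IsCoh E)
    (B : X.affineOpens) (p : ℕ) (hd : ∀ x ∈ B.1, topologicalKrullDim ↥(f.fiber x) ≤ p)
    (hr : ∀ r ∈ I.ideal B, ∀ m : Γ((Coh.Rpush f p).obj A, B.1), r • m = 0) (x) :
    postHM (tensorMap (kap f I A) (𝟙 ((Scheme.Modules.pullback f).obj E))) p (f ⁻¹ᵁ B.1) x = 0 := by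
  haveI := hA
  haveI := hI.1
  haveI := hE.1
  haveI : IsAffine B.1.toScheme := B.2
  let W := f ⁻¹ᵁ B.1
  haveI : Coh.IsQCoh ((Scheme.Modules.pullback f).obj (ClSub.idealMod I)) := EGA43.InjFibre.isQCoh_pullback f _
  haveI : Coh.IsQCoh ((Scheme.Modules.pullback f).obj E) := EGA43.InjFibre.isQCoh_pullback f _
  let A' := CohB1.tensorMod A ((Scheme.Modules.pullback f).obj (ClSub.idealMod I))
  haveI : Coh.IsQCoh A' := isQCoh_tensorMod _ _
  haveI : Coh.IsQCoh (CohB1.tensorMod A' ((Scheme.Modules.pullback f).obj E)) := isQCoh_tensorMod _ _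
  obtain ⟨x', rfl⟩ := (HHonEquiv (CohB1.tensorMod A' ((Scheme.Modules.pullback f).obj E)) W p).surjective x
  have hg := fiber_dim_restrict_le f B.1 p hd
  have h2 : ∀ y, hMap ((Scheme.Modules.restrictFunctor W.ι).map (kap f I A)) p y = 0 := by
    obtain ⟨m, h, hh⟩ := exists_generators hI B
    haveI := epi_rTens A (W := W) (fun k => pullSec f (h k)) fun U hU q y hy => pullSec_span f _ B.2 h hh U hU q y hy
    refine hMap_eq_zero_of_epi (f ∣_ B.1) p hg (fun _ : Fin m => A.restrict W.ι) (fun _ => inferInstance)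
      (fun k => rTens A (pullSec f (h k))) _ fun k y => ?_
    rw [rTens_kap f I A B.2 (h k)]
    refine hMap_smulMod_eq_zero f A B.2 p _ (hr _ ?_) y
    rw [← I.ker_subschemeι_app B, RingHom.mem_ker]
    exact (mem_range_idealModι I B.1 _).1 ⟨h k, rfl⟩
  obtain ⟨m, e, he⟩ := exists_generators hE B
  haveI := epi_rTens A' (W := W) (fun k => pullSec f (e k)) fun U hU q y hy => pullSec_span f _ B.2 e he U hU q y hy
  have h3 : hMap ((Scheme.Modules.restrictFunctor W.ι).map
      (tensorMap (kap f I A) (𝟙 ((Scheme.Modules.pullback f).obj E)))) p x' = 0 := by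
    refine hMap_eq_zero_of_epi (f ∣_ B.1) p hg (fun _ : Fin m => A'.restrict W.ι) (fun _ => inferInstance)
      (fun k => rTens A' (pullSec f (e k))) _ (fun k y => ?_) x'
    rw [rTens_comp, hMap_comp, h2, map_zero]
  rw [← HHonEquiv_natural, h3, map_zero]

end Groth.Agent.ResProp8
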