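import Groth.Agent.H8Lim.FibreDimVanish
import Groth.Agent.H8Lim.ModSections
import Groth.Agent.Coherent.ProjSpaceFinite
import Groth.Agent.Coherent.RpushStalk
import Groth.Agent.Coherent.AnnSheaf
import Groth.Agent.Coherent.TensorQcoh
import Groth.Agent.AmpleLib.RestrictTensor
import Groth.Agent.FModLib.LevelZero

/-!
# Maps killing cohomology over an affine open of the base, in the top fibre degree
-/

set_option autoImplicit false
set_option backward.isDefEq.respectTransparency false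
set_option backward.isDefEq.respectTransparency.types false
set_option linter.style.haveILetI false

universe u

open CategoryTheory CategoryTheory.Limits CategoryTheory.Abelian AlgebraicGeometry Opposite TopologicalSpace
open Groth.Agent.Coherent Groth.Agent.PicLib Groth.Agent.AmpleLib

namespace Groth.Agent.ResProp8

attribute [local instance] Groth.Agent.Coherent.hasFiniteBiproducts

variable {X Y : Scheme.{u}}

/-- The map on cohomology. -/
noncomputable abbrev hMap {M N : Y.Modules} (φ : M ⟶ N) (p : ℕ) : Coh.HH Y M p →+ Coh.HH Y N p :=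
  Sheaf.H.map ((toAbFunctor Y).map φ) p

theorem hMap_comp {M N P : Y.Modules} (φ : M ⟶ N) (ψ : N ⟶ P) (p : ℕ) (x : Coh.HH Y M p) :
    hMap (φ ≫ ψ) p x = hMap ψ p (hMap φ p x) := by
  show Sheaf.H.map ((toAbFunctor Y).map (φ ≫ ψ)) p x = _
  rw [Functor.map_comp, Sheaf.H.map_comp_apply]

theorem hMap_id {M : Y.Modules} (p : ℕ) (x : Coh.HH Y M p) : hMap (𝟙 M) p x = x := by
  show Sheaf.H.map ((toAbFunctor Y).map (𝟙 M)) p x = _
  rw [CategoryTheory.Functor.map_id, Sheaf.H.map_id_apply]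

theorem hMap_add {M N : Y.Modules} (φ ψ : M ⟶ N) (p : ℕ) (x : Coh.HH Y M p) :
    hMap (φ + ψ) p x = hMap φ p x + hMap ψ p x := by
  show Ext.comp x (Ext.mk₀ ((toAbFunctor Y).map (φ + ψ))) (add_zero p) = _
  rw [Functor.map_add, Ext.mk₀_add, Ext.comp_add]
  rfl

theorem hMap_zero {M N : Y.Modules} (p : ℕ) (x : Coh.HH Y M p) : hMap (0 : M ⟶ N) p x = 0 := by
  show Ext.comp x (Ext.mk₀ ((toAbFunctor Y).map (0 : M ⟶ N))) (add_zero p) = _
  rw [Functor.map_zero, Ext.mk₀_zero, Ext.comp_zero]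

/-- A map killed after composing with an epimorphism from a finite sum kills cohomology in the top degree. -/
theorem hMap_eq_zero_of_epi {S : Scheme.{u}} [IsAffine S] [IsLocallyNoetherian S] (g : Y ⟶ S) [IsProper g] (p : ℕ)
    (hd : ∀ y : S, topologicalKrullDim ↥(g.fiber y) ≤ p) {ι : Type} [Fintype ι] (N : ι → Y.Modules)
    (hN : ∀ i, Coh.IsQCoh (N i)) {M M' : Y.Modules} [Coh.IsQCoh M] (u : ∀ i, N i ⟶ M) [Epi (biproduct.desc u)]
    (φ : M ⟶ M') (h : ∀ i x, hMap (u i ≫ φ) p x = 0) (x : Coh.HH Y M p) : hMap φ p x = 0 := by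
  classical
  haveI : Coh.IsQCoh (⨁ N) := Coherent.isQCoh_biproduct N hN
  haveI : Coh.IsQCoh (kernel (biproduct.desc u)) := isQCoh_kernel _
  have hS : (ShortComplex.mk (kernel.ι (biproduct.desc u)) (biproduct.desc u) (kernel.condition _)).ShortExact :=
    { exact := ShortComplex.exact_of_f_is_kernel _ (kernelIsKernel _) }
  have hv := H8Lim.subsingleton_HH_of_fibre_dim g p hd (kernel (biproduct.desc u)) (p + 1) (Nat.lt_succ_self p)
  obtain ⟨y, hy⟩ := Ext.covariant_sequence_exact₃ _ (toAb_shortExact hS) x rfl (hv.elim _ _)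
  have hy' : hMap (biproduct.desc u) p y = x := hy
  rw [← hy', ← hMap_comp]
  have hs : ∀ s : Finset ι, hMap ((∑ i ∈ s, biproduct.π N i ≫ biproduct.ι N i) ≫ biproduct.desc u ≫ φ) p y = 0 := by
    intro s
    induction s using Finset.induction with
    | empty => rw [Finset.sum_empty, zero_comp, hMap_zero]
    | insert i s hi ih =>
      rw [Finset.sum_insert hi, Preadditive.add_comp, hMap_add, ih, add_zero, Category.assoc,
        biproduct.ι_desc_assoc, hMap_comp]
      exact h i _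
  have := hs Finset.univ
  rwa [biproduct.total, Category.id_comp] at this

section Rtens

variable {W : Y.Opens}

/-- Tensoring on the right with a section over `W`, as a map of modules on `W`. -/
noncomputable def rTens (M : Y.Modules) {N : Y.Modules} (e : Γ(N, W)) :
    M.restrict W.ι ⟶ (CohB1.tensorMod M N).restrict W.ι :=
  ⟨PresheafOfModules.homMk
    { app := fun O => AddCommGrpCat.ofHom
        { toFun := fun a => tmul (show Γ(M, W.ι ''ᵁ O.unop) from a) (resM N (W.ι_image_le O.unop) e)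
          map_zero' := tmul_zero_left _
          map_add' := fun a b => tmul_add_left _ _ _ }
      naturality := fun O O' i => by
        ext a
        show tmul (resM M _ (show Γ(M, W.ι ''ᵁ O.unop) from a)) (resM N _ e) =
          resM _ _ (tmul (show Γ(M, W.ι ''ᵁ O.unop) from a) (resM N _ e))
        rw [resM_tmul, resM_resM] }
    (fun O r a => by
      show tmul ((show Γ(Y, W.ι ''ᵁ O.unop) from _) • (show Γ(M, W.ι ''ᵁ O.unop) from a)) _ = _
      exact tmul_smul_left _ _ _)⟩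

theorem rTens_app (M : Y.Modules) {N : Y.Modules} (e : Γ(N, W)) (O : W.toScheme.Opens) (a : Γ(M, W.ι ''ᵁ O)) :
    (show Γ(CohB1.tensorMod M N, W.ι ''ᵁ O) from (rTens M e).app O a) = tmul a (resM N (W.ι_image_le O) e) := rfl

theorem rTens_comp {M M' N : Y.Modules} (φ : M ⟶ M') (e : Γ(N, W)) :
    rTens M e ≫ (Scheme.Modules.restrictFunctor W.ι).map (tensorMap φ (𝟙 N)) =
      (Scheme.Modules.restrictFunctor W.ι).map φ ≫ rTens M' e := by
  refine Scheme.Modules.hom_ext _ _ fun O => ?_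
  ext a
  show (tensorMap φ (𝟙 N)).app (W.ι ''ᵁ O) (tmul (show Γ(M, W.ι ''ᵁ O) from a) _) =
    tmul (φ.app (W.ι ''ᵁ O) (show Γ(M, W.ι ''ᵁ O) from a)) _
  rw [tensorMap_tmul]
  rfl

/-- Generators of `N` over `W` give a joint epimorphism. -/
theorem epi_rTens (M : Y.Modules) {N : Y.Modules} {κ : Type} [Fintype κ] (e : κ → Γ(N, W))
    (h : ∀ (U : Y.Opens) (hU : U ≤ W) (q : Γ(N, U)), ∀ y ∈ U, ∃ (U' : Y.Opens) (h' : U' ≤ U),
      y ∈ U' ∧ ∃ r : κ → Γ(Y, U'), resM N h' q = ∑ k, r k • resM N (h'.trans hU) (e k)) :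
    Epi (biproduct.desc fun k => rTens M (e k)) := by
  classical
  have key : ∀ (U : Y.Opens) (z : Γ(CohB1.tensorMod M N, U)), ∀ (hU : U ≤ W), ∀ y ∈ U,
      ∃ (U' : Y.Opens) (h' : U' ≤ U), y ∈ U' ∧ ∃ a : κ → Γ(M, U'),
        resM _ h' z = ∑ k, tmul (a k) (resM N (h'.trans hU) (e k)) := by
    refine AmpleLib.induction_local (P := fun U z => ∀ (hU : U ≤ W), ∀ y ∈ U,
      ∃ (U' : Y.Opens) (h' : U' ≤ U), y ∈ U' ∧ ∃ a : κ → Γ(M, U'),
        resM _ h' z = ∑ k, tmul (a k) (resM N (h'.trans hU) (e k))) ?_ ?_ ?_ ?_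
    · intro U z z' hz hz' hU y hy
      obtain ⟨U₁, h₁, hy₁, a, ha⟩ := hz hU y hy
      obtain ⟨U₂, h₂, hy₂, b, hb⟩ := hz' hU y hy
      refine ⟨U₁ ⊓ U₂, inf_le_left.trans h₁, ⟨hy₁, hy₂⟩,
        fun k => resM M inf_le_left (a k) + resM M inf_le_right (b k), ?_⟩
      have ea := congrArg (resM _ (inf_le_left : U₁ ⊓ U₂ ≤ U₁)) ha
      have eb := congrArg (resM _ (inf_le_right : U₁ ⊓ U₂ ≤ U₂)) hb
      rw [resM_resM, map_sum] at ea eb
      rw [map_add, ea, eb, ← Finset.sum_add_distrib]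
      refine Finset.sum_congr rfl fun k _ => ?_
      rw [resM_tmul, resM_tmul, resM_resM, resM_resM, tmul_add_left]
    · intro U hU y hy
      refine ⟨U, le_rfl, hy, 0, ?_⟩
      rw [map_zero]; exact (Finset.sum_eq_zero fun k _ => tmul_zero_left _).symm
    · intro U z hz hU y hy
      obtain ⟨U₁, h₁, hy₁, hP⟩ := hz y hy
      obtain ⟨U₂, h₂, hy₂, a, ha⟩ := hP (h₁.trans hU) y hy₁
      exact ⟨U₂, h₂.trans h₁, hy₂, a, by rw [← resM_resM _ h₁ h₂]; exact ha⟩
    · intro U a q hU y hy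
      obtain ⟨U', h', hy', r, hr⟩ := h U hU q y hy
      refine ⟨U', h', hy', fun k => r k • resM M h' a, ?_⟩
      rw [resM_tmul, hr]
      let T : Γ(N, U') →+ Γ(CohB1.tensorMod M N, U') :=
        { toFun := fun b => tmul (resM M h' a) b
          map_zero' := tmul_zero_right _
          map_add' := fun b c => tmul_add_right _ _ _ }
      show T (∑ k, r k • resM N (h'.trans hU) (e k)) = _
      rw [map_sum]
      exact Finset.sum_congr rfl fun k _ => (tmul_smul_right _ _ _).trans (tmul_smul_left _ _ _).symm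
  refine epi_of_locally_surjective _ fun O z y hy => ?_
  obtain ⟨U', h', hy', a, ha⟩ := key (W.ι ''ᵁ O) z (W.ι_image_le O) y.1 ⟨y, hy, rfl⟩
  let O' : W.toScheme.Opens := W.ι ⁻¹ᵁ U'
  have hO' : O' ≤ O := fun w hw => by
    obtain ⟨w', hw', e'⟩ := h' (show W.ι w ∈ U' from hw)
    exact W.ι.isOpenEmbedding.injective e' ▸ hw'
  have hi : W.ι ''ᵁ O' ≤ U' := W.ι.image_preimage_le U'
  refine ⟨O', hO', hy', ∑ k, (biproduct.ι (fun _ : κ => M.restrict W.ι) k).app O' (resM M hi (a k)), ?_⟩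
  rw [map_sum]
  refine Eq.trans (Finset.sum_congr rfl fun k _ => show (biproduct.desc fun k => rTens M (e k)).app O' _ =
      (rTens M (e k)).app O' (resM M hi (a k)) from
    ConcreteCategory.congr_hom (congrArg (fun φ : M.restrict W.ι ⟶ _ => φ.app O')
      (biproduct.ι_desc (fun k => rTens M (e k)) k)) _) ?_
  show (∑ k, (show Γ(CohB1.tensorMod M N, W.ι ''ᵁ O') from tmul (resM M hi (a k)) (resM N (W.ι_image_le O') (e k)))) =
    resM (CohB1.tensorMod M N) (W.ι.image_mono hO') z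
  have h2 := congrArg (resM (CohB1.tensorMod M N) hi) ha
  rw [resM_resM, map_sum] at h2
  refine Eq.trans ?_ h2.symm
  exact Finset.sum_congr rfl fun k _ => by rw [resM_tmul, resM_resM]

end Rtens

/-- Naturality of the comparison of cohomology over an open. -/
theorem HHonEquiv_natural {M N : Y.Modules} (φ : M ⟶ N) (W : Y.Opens) (p : ℕ) (x : Coh.HHon Y M W p) :
    HHonEquiv N W p (hMap ((Scheme.Modules.restrictFunctor W.ι).map φ) p x) = postHM φ p W (HHonEquiv M W p x) := by
  have h1 : HHTopEquiv (N.restrict W.ι) p (hMap ((Scheme.Modules.restrictFunctor W.ι).map φ) p x) =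
      postHM ((Scheme.Modules.restrictFunctor W.ι).map φ) p ⊤ (HHTopEquiv (M.restrict W.ι) p x) :=
    FModLib.HHTopEquiv_natural ((Scheme.Modules.restrictFunctor W.ι).map φ) p x
  have h2 : ∀ z, H'ModRestrictEquiv W.ι N ⊤ p (postHM ((Scheme.Modules.restrictFunctor W.ι).map φ) p ⊤ z) =
      postHM φ p (W.ι ''ᵁ ⊤) (H'ModRestrictEquiv W.ι M ⊤ p z) := fun z => by
    obtain ⟨z', rfl⟩ := (H'RestrictEquiv (X := Y.toTopCat) (U := W.toScheme.toTopCat) W.ι.isOpenEmbedding
      (Coh.toAb M) ⊤ p).surjective z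
    have hn := H'RestrictEquiv_naturality (X := Y.toTopCat) (U := W.toScheme.toTopCat) W.ι.isOpenEmbedding
      ((toAbFunctor Y).map φ) ⊤ p z'
    exact ((congrArg (H'ModRestrictEquiv W.ι N ⊤ p) hn.symm).trans (AddEquiv.symm_apply_apply _ _)).trans
      (congrArg (postHM φ p (W.ι ''ᵁ ⊤)) (AddEquiv.symm_apply_apply _ _).symm)
  simp only [HHonEquiv, AddEquiv.trans_apply]
  rw [h1, h2]
  exact H'Congr_naturality ((toAbFunctor Y).map φ) p _ _

end Groth.Agent.ResProp8
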