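import Groth.Agent.Coherent.RelExact14.Sections
import Groth.Agent.Coherent.Serre.Vanishing
import Groth.Agent.Coherent.ProjSpaceFinite
import Groth.Agent.AmpleLib.Local
import Groth.Agent.AmpleLib.RestrictTensor
import Groth.Agent.AmpleLib.CounitEpi
import Groth.Agent.AmpleLib.Twist2

/-!
# Sections of high twists over the preimage of an affine open are spanned by finitely many maps
-/

set_option autoImplicit false
set_option backward.isDefEq.respectTransparency false
set_option backward.isDefEq.respectTransparency.types false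

universe u

open CategoryTheory CategoryTheory.Limits AlgebraicGeometry Opposite TopologicalSpace
open Groth.Agent.Coherent Groth.Agent.PicLib Groth.Agent.AmpleLib

namespace Groth.Agent.ResProp8

variable {X Y : Scheme.{u}}

theorem tensorMap_zero_left {L L' M : X.Modules} : tensorMap (0 : L ⟶ L') (𝟙 M) = 0 :=
  AmpleLib.hom_ext fun U a b => by
    rw [tensorMap_tmul]
    exact (congrArg (fun t => tmul t _) (rfl : (0 : L ⟶ L').app U a = 0)).trans (tmul_zero_left _)

/-- A morphism of modules that is bijective on all small opens is an isomorphism. -/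
theorem isIso_of_bijective_nhd {M N : X.Modules} (φ : M ⟶ N)
    (h : ∀ x : X, ∃ W : X.Opens, x ∈ W ∧ ∀ O : X.Opens, O ≤ W → Function.Bijective (φ.app O)) : IsIso φ := by
  choose W hW hb using h
  have hmono : ∀ (U : X.Opens), Function.Injective (φ.app U) := fun U a b hab => by
    refine sec_ext M a b fun y hy => ⟨U ⊓ W y, inf_le_left, ⟨hy, hW y⟩, (hb y _ inf_le_right).1 ?_⟩
    rw [app_resM, app_resM, hab]
  refine Scheme.Modules.Hom.isIso_iff_isIso_app.2 fun U => (ConcreteCategory.isIso_iff_bijective _).2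
    ⟨hmono U, fun a => ?_⟩
  choose b hb' using fun y : (U : Set X) =>
    (hb y.1 (U ⊓ W y.1) inf_le_right).2 (resM N inf_le_left a)
  obtain ⟨s, hs, -⟩ := TopCat.Sheaf.existsUnique_gluing' (C := AddCommGrpCat)
    (⟨M.presheaf, M.isSheaf⟩ : TopCat.Sheaf Ab X) (fun y : (U : Set X) => U ⊓ W y.1) U
    (fun y => homOfLE inf_le_left) (fun y hy => Opens.mem_iSup.2 ⟨⟨y, hy⟩, hy, hW _⟩) b fun i j => by
      apply hmono
      show φ.app _ (resM M _ (b i)) = φ.app _ (resM M _ (b j))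
      rw [app_resM, app_resM, hb', hb', resM_resM, resM_resM]
  refine ⟨s, sec_ext N _ _ fun y hy => ⟨U ⊓ W y, inf_le_left, ⟨hy, hW y⟩, ?_⟩⟩
  rw [← app_resM, ← hb' ⟨y, hy⟩]
  exact congrArg (φ.app _) (hs ⟨y, hy⟩)

set_option maxHeartbeats 800000 in
/-- For a finite jointly surjective family of maps over the preimage of an affine open, high twists have
surjective sections. -/
theorem eventually_span (f : Y ⟶ X) [IsProper f] [IsLocallyNoetherian X] {L : Y.Modules}
    (hL : PicF.IsInvertible L) (B : X.affineOpens) (hamp : CohB1.IsAmple (L.restrict (f ⁻¹ᵁ B.1).ι))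
    {A C : Y.Modules} (hA : Coh.IsCoh A) (hC : Coh.IsCoh C) {κ : Type} [Fintype κ]
    (u : κ → (A.restrict (f ⁻¹ᵁ B.1).ι ⟶ C.restrict (f ⁻¹ᵁ B.1).ι))
    (hu : ∀ (O : (f ⁻¹ᵁ B.1).toScheme.Opens) (c : Γ(C.restrict (f ⁻¹ᵁ B.1).ι, O)), ∀ y ∈ O,
      ∃ (O' : (f ⁻¹ᵁ B.1).toScheme.Opens) (h : O' ≤ O), y ∈ O' ∧
        ∃ a : κ → Γ(A.restrict (f ⁻¹ᵁ B.1).ι, O'), ∑ k, (u k).app O' (a k) = resM _ h c) :
    ∃ N : ℕ, ∀ n : ℕ, N ≤ n →
      ∀ z : Γ(CohB1.tensorMod (C.restrict (f ⁻¹ᵁ B.1).ι) ((CohB1.tensorPow L n).restrict (f ⁻¹ᵁ B.1).ι), ⊤),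
        ∃ a : κ → Γ(CohB1.tensorMod (A.restrict (f ⁻¹ᵁ B.1).ι) ((CohB1.tensorPow L n).restrict (f ⁻¹ᵁ B.1).ι), ⊤),
          z = ∑ k, (tensorMap (u k) (𝟙 ((CohB1.tensorPow L n).restrict (f ⁻¹ᵁ B.1).ι))).app ⊤ (a k) := by
  classical
  let Z := (f ⁻¹ᵁ B.1).toScheme
  let j : Z ⟶ Y := (f ⁻¹ᵁ B.1).ι
  let π : Z ⟶ Spec Γ(X, B.1) := f ∣_ B.1 ≫ B.2.isoSpec.hom
  have : IsProper (f ∣_ B.1) := MorphismProperty.of_isPullback (P := @IsProper)
    (isPullback_morphismRestrict f B.1).flip inferInstance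
  have : IsProper π := inferInstanceAs (IsProper (f ∣_ B.1 ≫ B.2.isoSpec.hom))
  let _ : Z.Over (Spec (CommRingCat.of Γ(X, B.1))) := ⟨π⟩
  have : IsProper (Z ↘ Spec (CommRingCat.of Γ(X, B.1))) := ‹IsProper π›
  have hR : IsNoetherianRing Γ(X, B.1) := IsLocallyNoetherian.component_noetherian B
  have : IsLocallyNoetherian Y := LocallyOfFiniteType.isLocallyNoetherian f
  have : IsLocallyNoetherian Z := LocallyOfFiniteType.isLocallyNoetherian j
  have : HasFiniteBiproducts Z.Modules := HasFiniteBiproducts.of_hasFiniteProducts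
  let AR : κ → Z.Modules := fun _ => A.restrict j
  let Ψ : (⨁ AR) ⟶ C.restrict j := biproduct.desc u
  have hAR : Coh.IsCoh (⨁ AR) := isCoh_biproduct AR (fun _ => AmpleLib.isCoh_restrict j A hA)
  have hCR : Coh.IsCoh (C.restrict j) := AmpleLib.isCoh_restrict j C hC
  have hΨ : Epi Ψ := by
    refine Coherent.epi_of_locally_surjective Ψ fun O c y hy => ?_
    obtain ⟨O', h, hy', a, ha⟩ := hu O c y hy
    refine ⟨O', h, hy', ∑ k, (biproduct.ι AR k).app O' (a k), ?_⟩
    rw [map_sum, ← ha]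
    refine Finset.sum_congr rfl fun k _ => ?_
    show (biproduct.ι AR k ≫ Ψ).app O' (a k) = _
    rw [biproduct.ι_desc]
  let S : ShortComplex Z.Modules := ShortComplex.mk Ψ (cokernel.π Ψ) (cokernel.condition Ψ)
  have hS : S.Exact := ShortComplex.exact_of_g_is_cokernel _ (cokernelIsCokernel _)
  have hK : Coh.IsCoh (kernel Ψ) := isCoh_kernel Ψ hAR hCR.1
  obtain ⟨N, hN⟩ := Serre.exists_subsingleton_HH_twist Γ(X, B.1) hamp _ hK
  refine ⟨N, fun n hn z => ?_⟩
  let P : Z.Modules := (CohB1.tensorPow L n).restrict j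
  obtain ⟨ep, -⟩ := exists_pullPowIso j hL n
  let eP : CohB1.tensorPow (L.restrict j) n ≅ P :=
    powIsoOfIso ((Scheme.Modules.restrictFunctorIsoPullback j).app L) n ≪≫ ep.symm ≪≫
      ((Scheme.Modules.restrictFunctorIsoPullback j).app (CohB1.tensorPow L n)).symm
  have hP : PicF.IsInvertible P := glocus_isInvertible_of_iso eP (isInvertible_tensorPow hamp.1 n)
  have hv : Subsingleton (Sheaf.H' (Coh.toAb (CohB1.tensorMod (kernel S.f) P)) 1 (⊤ : Z.Opens)) :=
    subsingleton_H'_of_iso (tensorIso (Iso.refl _) eP) 1 ⊤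
      ((Serre.subsingleton_H'_top_iff _ 1).2 (hN n hn 1 one_pos))
  have h0 : cokernel.π Ψ = 0 := cokernel.π_of_epi Ψ
  obtain ⟨x, hx⟩ := RelExact14.exact_sections hS hP ⊤ hv z (by
    show (tensorMap (cokernel.π Ψ) (𝟙 P)).app ⊤ z = 0
    rw [h0, tensorMap_zero_left]
    rfl)
  refine ⟨fun k => (tensorMap (biproduct.π AR k) (𝟙 P)).app ⊤ x, ?_⟩
  have key : tensorMap Ψ (𝟙 P) = ∑ k, tensorMap (biproduct.π AR k) (𝟙 P) ≫ tensorMap (u k) (𝟙 P) := by
    refine AmpleLib.hom_ext fun U a b => ?_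
    rw [tensorMap_tmul, app_sum]
    have hd : Ψ = ∑ k, biproduct.π AR k ≫ u k := biproduct.desc_eq
    rw [hd, app_sum]
    let T : Γ(C.restrict j, U) →+ Γ(CohB1.tensorMod (C.restrict j) P, U) :=
      AddMonoidHom.mk' (fun t => tmul t b) (fun t t' => tmul_add_left t t' b)
    refine (map_sum T _ _).trans (Finset.sum_congr rfl fun k _ => ?_)
    rw [Scheme.Modules.Hom.comp_app, ConcreteCategory.comp_apply, Scheme.Modules.Hom.comp_app,
      ConcreteCategory.comp_apply, tensorMap_tmul, tensorMap_tmul]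
    rfl
  rw [← hx, show S.f = Ψ from rfl, key, app_sum]
  rfl

end Groth.Agent.ResProp8
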