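import Groth.Agent.ResProp8.Basics
import Groth.Agent.FinPush14.ToPush
import Groth.Agent.AmpleLib.RestrictTensor
import Groth.Agent.AmpleLib.Twist2
import Groth.Agent.DCat.PullTensor
import Groth.Agent.TPowGen8.Ideal

/-!
# The comparison of tensor powers with twists for a pullback which is invertible over an open
-/

set_option autoImplicit false
set_option backward.isDefEq.respectTransparency false
set_option backward.isDefEq.respectTransparency.types false

universe u

open CategoryTheory CategoryTheory.Limits AlgebraicGeometry Opposite TopologicalSpace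
open Groth.Agent.Coherent Groth.Agent.PicLib Groth.Agent.AmpleLib

namespace Groth.Agent.ResProp8

variable {X Y : Scheme.{u}}

/-- The lax monoidal structure of a direct image. -/
noncomputable def pushLax (g : Y ⟶ X) (P Q : Y.Modules) :
    CohB1.tensorMod ((Scheme.Modules.pushforward g).obj P) ((Scheme.Modules.pushforward g).obj Q) ⟶
      (Scheme.Modules.pushforward g).obj (CohB1.tensorMod P Q) :=
  Bilin.desc
    { app := fun O a b => (show Γ(CohB1.tensorMod P Q, g ⁻¹ᵁ O) from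
        tmul (show Γ(P, g ⁻¹ᵁ O) from a) (show Γ(Q, g ⁻¹ᵁ O) from b))
      add_left := fun O a a' b => tmul_add_left _ _ _
      add_right := fun O a b b' => tmul_add_right _ _ _
      smul_left := fun O r a b => tmul_smul_left (g.app O r) (show Γ(P, g ⁻¹ᵁ O) from a) (show Γ(Q, g ⁻¹ᵁ O) from b)
      smul_right := fun O r a b => tmul_smul_right (g.app O r) (show Γ(P, g ⁻¹ᵁ O) from a) (show Γ(Q, g ⁻¹ᵁ O) from b)
      res := fun O O' h a b => resM_tmul ((Opens.map g.base).map (homOfLE h)).le _ _ }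

theorem pushLax_tmul (g : Y ⟶ X) (P Q : Y.Modules) (O : X.Opens)
    (a : Γ(P, g ⁻¹ᵁ O)) (b : Γ(Q, g ⁻¹ᵁ O)) :
    (pushLax g P Q).app O (tmul (L := (Scheme.Modules.pushforward g).obj P)
      (M := (Scheme.Modules.pushforward g).obj Q) a b) = tmul a b :=
  Bilin.desc_tmul _ _ _ _

variable (f : Y ⟶ X) (V : X.Opens)

/-- The open of `Y` where sections of `TW` live. -/
noncomputable abbrev wOp (O : X.Opens) : Y.Opens := (f ⁻¹ᵁ V).ι ''ᵁ ((f ⁻¹ᵁ V).ι ⁻¹ᵁ (f ⁻¹ᵁ O))

theorem wOp_le (O : X.Opens) : wOp f V O ≤ f ⁻¹ᵁ O := (f ⁻¹ᵁ V).ι.image_preimage_le _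

theorem le_wOp {O : X.Opens} (hO : O ≤ V) : f ⁻¹ᵁ O ≤ wOp f V O := by
  show f ⁻¹ᵁ O ≤ (f ⁻¹ᵁ V).ι ''ᵁ ((f ⁻¹ᵁ V).ι ⁻¹ᵁ (f ⁻¹ᵁ O))
  rw [Scheme.Hom.image_preimage_eq_opensRange_inf, Scheme.Opens.opensRange_ι]
  exact le_inf (f.preimage_mono hO) le_rfl

/-- `f_* j_* (M|_{f⁻¹V})`. -/
noncomputable def TW (M : Y.Modules) : X.Modules :=
  (Scheme.Modules.pushforward f).obj
    ((Scheme.Modules.pushforward (f ⁻¹ᵁ V).ι).obj (M.restrict (f ⁻¹ᵁ V).ι))

/-- The map on `TW`. -/
noncomputable def twMap {M M' : Y.Modules} (φ : M ⟶ M') : TW f V M ⟶ TW f V M' :=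
  (Scheme.Modules.pushforward f).map ((Scheme.Modules.pushforward (f ⁻¹ᵁ V).ι).map
    ((Scheme.Modules.restrictFunctor (f ⁻¹ᵁ V).ι).map φ))

theorem twMap_app {M M' : Y.Modules} (φ : M ⟶ M') (O : X.Opens) (z : Γ(M, wOp f V O)) :
    (show Γ(M', wOp f V O) from (twMap f V φ).app O z) = φ.app (wOp f V O) z := rfl

/-- The restriction `f_* M → f_* j_* (M|)`. -/
noncomputable def toTW (M : Y.Modules) : (Scheme.Modules.pushforward f).obj M ⟶ TW f V M :=
  (Scheme.Modules.pushforward f).map ((Scheme.Modules.restrictAdjunction (f ⁻¹ᵁ V).ι).unit.app M)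

theorem toTW_app (M : Y.Modules) (O : X.Opens) (z : Γ(M, f ⁻¹ᵁ O)) :
    (show Γ(M, wOp f V O) from (toTW f V M).app O z) = resM M (wOp_le f V O) z := rfl

theorem bijective_toTW (M : Y.Modules) {O : X.Opens} (hO : O ≤ V) :
    Function.Bijective ((toTW f V M).app O) :=
  FinPush14.bijective_unit_app M (f ⁻¹ᵁ V) (f.preimage_mono hO)

/-- The lax monoidal structure of `TW`. -/
noncomputable def twLax (P Q : Y.Modules) :
    CohB1.tensorMod (TW f V P) (TW f V Q) ⟶ TW f V (CohB1.tensorMod P Q) :=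
  pushLax f _ _ ≫ (Scheme.Modules.pushforward f).map
    (pushLax (f ⁻¹ᵁ V).ι _ _ ≫
      (Scheme.Modules.pushforward (f ⁻¹ᵁ V).ι).map (restrictTensorHom (f ⁻¹ᵁ V).ι P Q))

theorem twLax_tmul (P Q : Y.Modules) (O : X.Opens) (a : Γ(P, wOp f V O)) (b : Γ(Q, wOp f V O)) :
    (show Γ(CohB1.tensorMod P Q, wOp f V O) from
      (twLax f V P Q).app O (tmul (L := TW f V P) (M := TW f V Q) a b)) = tmul a b := by
  let O₁ := f ⁻¹ᵁ O
  let O₂ := (f ⁻¹ᵁ V).ι ⁻¹ᵁ O₁
  show (restrictTensorHom (f ⁻¹ᵁ V).ι P Q).app O₂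
    ((pushLax (f ⁻¹ᵁ V).ι _ _).app O₁ ((pushLax f _ _).app O _)) = _
  refine (congrArg (fun t => (restrictTensorHom (f ⁻¹ᵁ V).ι P Q).app O₂ ((pushLax (f ⁻¹ᵁ V).ι _ _).app O₁ t))
    (pushLax_tmul f _ _ O a b)).trans ?_
  refine (congrArg (fun t => (restrictTensorHom (f ⁻¹ᵁ V).ι P Q).app O₂ t)
    (pushLax_tmul (f ⁻¹ᵁ V).ι _ _ O₁ a b)).trans ?_
  exact restrictTensorHom_tmul (f ⁻¹ᵁ V).ι P Q O₂ a b

variable {G F : X.Modules} {L : Y.Modules}
  (e : ((Scheme.Modules.pullback f).obj F).restrict (f ⁻¹ᵁ V).ι ≅ L.restrict (f ⁻¹ᵁ V).ι)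

/-- `ν : G → TW (f^* G)`. -/
noncomputable def twUnit (G : X.Modules) : G ⟶ TW f V ((Scheme.Modules.pullback f).obj G) :=
  (Scheme.Modules.pullbackPushforwardAdjunction f).unit.app G ≫ toTW f V _

theorem twUnit_app (G : X.Modules) (O : X.Opens) (g : Γ(G, O)) :
    (show Γ((Scheme.Modules.pullback f).obj G, wOp f V O) from (twUnit f V G).app O g) =
      resM _ (wOp_le f V O) (pullSec f g) := rfl

/-- `σ : F → TW L`. -/
noncomputable def twSec : F ⟶ TW f V L :=
  twUnit f V F ≫ (Scheme.Modules.pushforward f).map ((Scheme.Modules.pushforward (f ⁻¹ᵁ V).ι).map e.hom)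

theorem bijective_twSec {U : X.Opens} [IsIso (f ∣_ U)] {O : X.Opens} (hU : O ≤ U) (hV : O ≤ V) :
    Function.Bijective ((twSec f V e).app O) := by
  have h1 : Function.Bijective ((twUnit f V F).app O) :=
    (bijective_toTW f V _ hV).comp (bijective_pullSec_of_isIso_over f F hU)
  exact (ConcreteCategory.bijective_of_isIso (e.hom.app ((f ⁻¹ᵁ V).ι ⁻¹ᵁ (f ⁻¹ᵁ O)))).comp h1

/-- `π_n : F^n → TW (L^n)`. -/
noncomputable def twPow : ∀ n : ℕ, CohB1.tensorPow F n ⟶ TW f V (CohB1.tensorPow L n)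
  | 0 => ClSub.unitToPush f ≫ toTW f V (Coh.structureModule Y)
  | n + 1 => tensorMap (twPow n) (twSec f V e) ≫ twLax f V (CohB1.tensorPow L n) L

theorem twPow_succ_tmul (n : ℕ) (O : X.Opens) (p : Γ(CohB1.tensorPow F n, O)) (x : Γ(F, O)) :
    (show Γ(CohB1.tensorPow L (n + 1), wOp f V O) from (twPow f V e (n + 1)).app O (tmul p x)) =
      tmul (L := CohB1.tensorPow L n) (M := L) (show Γ(CohB1.tensorPow L n, wOp f V O) from (twPow f V e n).app O p)
        (show Γ(L, wOp f V O) from (twSec f V e).app O x) := by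
  show (twLax f V _ L).app O ((tensorMap (twPow f V e n) (twSec f V e)).app O (tmul p x)) = _
  rw [tensorMap_tmul]
  exact twLax_tmul f V _ _ O _ _

theorem twPow_powSec (O : X.Opens) (x : Γ(F, O)) : ∀ n : ℕ,
    (show Γ(CohB1.tensorPow L n, wOp f V O) from (twPow f V e n).app O (powSec x n)) =
      powSec (show Γ(L, wOp f V O) from (twSec f V e).app O x) n
  | 0 => by
    show resM (Coh.structureModule Y) (wOp_le f V O) ((ClSub.unitToPush f).app O (oneSec O)) = _
    have h1 : (ClSub.unitToPush f).app O (oneSec O) = oneSec (f ⁻¹ᵁ O) := map_one (f.app O).hom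
    rw [h1, resM_oneSec]
    rfl
  | n + 1 => by
    rw [powSec_succ, powSec_succ]
    refine (twPow_succ_tmul f V e n O (powSec x n) x).trans ?_
    exact congrArg (fun t => tmul (L := CohB1.tensorPow L n) (M := L) t _) (twPow_powSec O x n)

variable (G)

/-- `θ_n : G ⊗ F^n → TW (f^*G ⊗ L^n)`. -/
noncomputable def theta (n : ℕ) : CohB1.tensorMod G (CohB1.tensorPow F n) ⟶
    TW f V (CohB1.tensorMod ((Scheme.Modules.pullback f).obj G) (CohB1.tensorPow L n)) :=
  tensorMap (twUnit f V G) (twPow f V e n) ≫ twLax f V _ _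

variable {G}

theorem theta_tmul (n : ℕ) (O : X.Opens) (g : Γ(G, O)) (p : Γ(CohB1.tensorPow F n, O)) :
    (show Γ(CohB1.tensorMod ((Scheme.Modules.pullback f).obj G) (CohB1.tensorPow L n), wOp f V O) from
      (theta f V G e n).app O (tmul g p)) =
      tmul (show Γ((Scheme.Modules.pullback f).obj G, wOp f V O) from (twUnit f V G).app O g)
        (show Γ(CohB1.tensorPow L n, wOp f V O) from (twPow f V e n).app O p) := by
  show (twLax f V _ _).app O ((tensorMap (twUnit f V G) (twPow f V e n)).app O (tmul g p)) = _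
  rw [tensorMap_tmul]
  exact twLax_tmul f V _ _ O _ _

/-- Near a point of `U ⊓ V` all the maps `θ_n` are bijective. -/
theorem exists_nhd_bijective_theta [IsProper f] {U : X.Opens} [IsIso (f ∣_ U)] (hL : PicF.IsInvertible L)
    {x : X} (hxU : x ∈ U) (hxV : x ∈ V) :
    ∃ O : X.Opens, x ∈ O ∧ O ≤ U ⊓ V ∧ ∀ (n : ℕ) (O' : X.Opens), O' ≤ O →
      Function.Bijective ((theta f V G e n).app O') := by
  let w : (f ⁻¹ᵁ U).toScheme := (inv (f ∣_ U)) ⟨x, hxU⟩
  have hw : f w.1 = x := by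
    have : (inv (f ∣_ U) ≫ f ∣_ U) ⟨x, hxU⟩ = (⟨x, hxU⟩ : U.toScheme) := by rw [IsIso.inv_hom_id]; rfl
    rw [Scheme.Hom.comp_apply] at this
    exact (morphismRestrict_base_coe f U w).symm.trans (congrArg Subtype.val this)
  obtain ⟨W, hwW, s, hs⟩ := exists_isGen hL w.1
  let D : X.Opens := ⟨(f '' (W : Set Y)ᶜ)ᶜ, (f.isClosedMap _ W.2.isClosed_compl).isOpen_compl⟩
  let O : X.Opens := (U ⊓ V) ⊓ D
  have hxO : x ∈ O := by
    refine ⟨⟨hxU, hxV⟩, ?_⟩
    rintro ⟨z, hz, hzx⟩
    have hzU : z ∈ f ⁻¹ᵁ U := show f z ∈ U by rw [hzx]; exact hxU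
    have hinj : Function.Injective (f ∣_ U) := (f ∣_ U).homeomorph.injective
    have : (⟨z, hzU⟩ : (f ⁻¹ᵁ U).toScheme) = w := hinj (Subtype.ext (by
      rw [morphismRestrict_base_coe, morphismRestrict_base_coe]
      exact hzx.trans hw.symm))
    refine hz (show z ∈ (W : Set Y) from ?_)
    rw [show z = w.1 from congrArg Subtype.val this]
    exact hwW
  have hOU : O ≤ U := inf_le_left.trans inf_le_left
  have hOV : O ≤ V := inf_le_left.trans inf_le_right
  have hOW : f ⁻¹ᵁ O ≤ W := fun z hz => by_contra fun h => hz.2 ⟨z, h, rfl⟩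
  let s₀ : Γ(L, f ⁻¹ᵁ O) := resM L hOW s
  obtain ⟨x₀, hx₀⟩ := (bijective_twSec f V e hOU hOV).2 ((toTW f V L).app O s₀)
  have hσ : ∀ {O' : X.Opens} (h : O' ≤ O),
      (twSec f V e).app O' (resM F h x₀) = (toTW f V L).app O' (resM L (f.preimage_mono h) s₀) := by
    intro O' h
    rw [app_resM, hx₀]
    exact (app_resM (toTW f V L) h s₀).symm
  have hx₀g : IsGen F O x₀ := fun O' h => by
    have hb : Function.Bijective (fun r : Γ(X, O') =>
        (toTW f V L).app O' (r • (show Γ((Scheme.Modules.pushforward f).obj L, O') from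
          resM L (f.preimage_mono h) s₀))) := by
      refine (bijective_toTW f V L (h.trans hOV)).comp ?_
      have := ((hs.restrict hOW) (f ⁻¹ᵁ O') (f.preimage_mono h)).comp
        (bijective_app_of_isIso_over f (U := U) (h.trans hOU))
      exact this
    refine (Function.Bijective.of_comp_iff' (bijective_twSec f V e (h.trans hOU) (h.trans hOV)) _).1 ?_
    convert hb using 1
    funext r
    show (twSec f V e).app O' (r • resM F h x₀) = _
    rw [Scheme.Modules.Hom.app_smul, hσ h, Scheme.Modules.Hom.app_smul]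
  refine ⟨O, hxO, inf_le_left, fun n O' h => ?_⟩
  have hgL : IsGen L (wOp f V O') (show Γ(L, wOp f V O') from (twSec f V e).app O' (resM F h x₀)) := by
    rw [hσ h, toTW_app, resM_resM, resM_resM]
    exact hs.restrict _
  have hbS := bijective_tmul_powSec (M := G) hx₀g n O' h
  have hcomp : (theta f V G e n).app O' ∘ (fun g : Γ(G, O') => tmul g (powSec (resM F h x₀) n)) =
      (fun a : Γ((Scheme.Modules.pullback f).obj G, wOp f V O') => tmul a (powSec
        (show Γ(L, wOp f V O') from (twSec f V e).app O' (resM F h x₀)) n)) ∘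
        (fun g => (twUnit f V G).app O' g) := funext fun g => by
    show (theta f V G e n).app O' (tmul g (powSec (resM F h x₀) n)) = _
    refine (theta_tmul f V e n O' g _).trans ?_
    rw [twPow_powSec]
    rfl
  refine (Function.Bijective.of_comp_iff _ hbS).1 ?_
  rw [hcomp]
  refine Function.Bijective.comp ?_ ((bijective_toTW f V _ (h.trans hOV)).comp
    (bijective_pullSec_of_isIso_over f G (h.trans hOU)))
  have := bijective_tmul_powSec (M := (Scheme.Modules.pullback f).obj G) hgL n _ le_rfl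
  simpa only [resM_self] using this

end Groth.Agent.ResProp8
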